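import Cfsg.Agent.H21.BRDefs
import Cfsg.Agent.H4.Irr

/-!
# Brauer–Reynolds team project (S0999): bookkeeping lemmas for `B0Data`

Splitting sums over all irreducible characters along
`{1} ⊔ plusSet ⊔ minusSet ⊔ Y ⊔ Z` (`Z` = the characters outside the principal block), and
sums over a subgroup of prime order of a function constant off the identity.
-/

set_option autoImplicit false

namespace Cfsg.Agent.H21.BR

open Cfsg

theorem mem_plusSet {G : Type*} [Group G] {X : Finset (IrrCharacter G)}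
    {δ : IrrCharacter G → ℤ} {χ : IrrCharacter G} :
    χ ∈ plusSet X δ ↔ χ ∈ X ∧ χ ≠ one G ∧ δ χ = 1 := by
  classical
  unfold plusSet
  rw [Finset.mem_filter]

theorem mem_minusSet {G : Type*} [Group G] {X : Finset (IrrCharacter G)}
    {δ : IrrCharacter G → ℤ} {χ : IrrCharacter G} :
    χ ∈ minusSet X δ ↔ χ ∈ X ∧ δ χ = -1 := by
  classical
  unfold minusSet
  rw [Finset.mem_filter]

/-- The set of characters outside `X ∪ Y`, as a finset. -/
theorem exists_out {G : Type*} [Group G] [Finite G] (X Y : Finset (IrrCharacter G)) :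
    ∃ Z : Finset (IrrCharacter G), ∀ ψ, ψ ∈ Z ↔ ψ ∉ X ∧ ψ ∉ Y := by
  classical
  let _ := Cfsg.Agent.H4.fintypeIrr G
  exact ⟨Finset.univ.filter (fun ψ => ψ ∉ X ∧ ψ ∉ Y), fun ψ => by simp⟩

/-- `X = {1} ⊔ plusSet ⊔ minusSet`. -/
theorem sum_X_split {G : Type*} [Group G] {p : ℕ} {P : Subgroup G} {e : ℕ}
    {X Y : Finset (IrrCharacter G)} {δ : IrrCharacter G → ℤ} {ε : ℤ}
    (h : B0Data p P e X Y δ ε) {M : Type*} [AddCommMonoid M] (F : IrrCharacter G → M) :
    ∑ χ ∈ X, F χ = F (one G) + ∑ χ ∈ plusSet X δ, F χ + ∑ χ ∈ minusSet X δ, F χ := by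
  classical
  have h1 : X = insert (one G) (plusSet X δ ∪ minusSet X δ) := by
    ext χ
    simp only [Finset.mem_insert, Finset.mem_union, mem_plusSet, mem_minusSet]
    constructor
    · intro hχ
      by_cases h0 : χ = one G
      · exact Or.inl h0
      · rcases h.δ_pm χ hχ with h1 | h1
        · exact Or.inr (Or.inl ⟨hχ, h0, h1⟩)
        · exact Or.inr (Or.inr ⟨hχ, h1⟩)
    · rintro (h0 | ⟨hχ, -, -⟩ | ⟨hχ, -⟩)
      · rw [h0]; exact h.one_mem
      · exact hχ
      · exact hχ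
  have h2 : one G ∉ plusSet X δ ∪ minusSet X δ := by
    simp only [Finset.mem_union, mem_plusSet, mem_minusSet]
    rintro (⟨-, h0, -⟩ | ⟨-, h0⟩)
    · exact h0 rfl
    · rw [h.δ_one] at h0; norm_num at h0
  have h3 : Disjoint (plusSet X δ) (minusSet X δ) := by
    rw [Finset.disjoint_left]
    intro χ h4 h5
    rw [mem_plusSet] at h4
    rw [mem_minusSet] at h5
    rw [h4.2.2] at h5
    norm_num at h5
  conv_lhs => rw [h1]
  rw [Finset.sum_insert h2, Finset.sum_union h3, add_assoc]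

/-- `1 + #plus + #minus = e`. -/
theorem card_X_split {G : Type*} [Group G] {p : ℕ} {P : Subgroup G} {e : ℕ}
    {X Y : Finset (IrrCharacter G)} {δ : IrrCharacter G → ℤ} {ε : ℤ}
    (h : B0Data p P e X Y δ ε) :
    1 + (plusSet X δ).card + (minusSet X δ).card = e := by
  have h1 := sum_X_split h (fun _ => (1 : ℕ))
  simp only [Finset.sum_const, smul_eq_mul, mul_one] at h1
  rw [← h1, h.cardX]

/-- Splitting a sum over all irreducible characters. -/
theorem sum_split {G : Type*} [Group G] [Finite G] {p : ℕ} {P : Subgroup G} {e : ℕ}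
    {X Y : Finset (IrrCharacter G)} {δ : IrrCharacter G → ℤ} {ε : ℤ}
    (h : B0Data p P e X Y δ ε) (Z : Finset (IrrCharacter G))
    (hZ : ∀ ψ, ψ ∈ Z ↔ ψ ∉ X ∧ ψ ∉ Y) {M : Type*} [AddCommMonoid M]
    (F : IrrCharacter G → M) :
    ∑ᶠ ψ : IrrCharacter G, F ψ = F (one G) + ∑ χ ∈ plusSet X δ, F χ +
      ∑ χ ∈ minusSet X δ, F χ + ∑ θ ∈ Y, F θ + ∑ ψ ∈ Z, F ψ := by
  classical
  let _ := Cfsg.Agent.H4.fintypeIrr G
  rw [Cfsg.Agent.H4.finsum_irr_eq_sum, ← sum_X_split h F]
  have h1 : (Finset.univ : Finset (IrrCharacter G)) = (X ∪ Y) ∪ Z := by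
    ext ψ
    simp only [Finset.mem_univ, Finset.mem_union, hZ, true_iff]
    tauto
  have h2 : Disjoint (X ∪ Y) Z := by
    rw [Finset.disjoint_left]
    intro ψ h3 h4
    rw [hZ] at h4
    rw [Finset.mem_union] at h3
    tauto
  rw [h1, Finset.sum_union h2, Finset.sum_union h.disj]

/-- `|Y| = t`. -/
theorem card_Y {G : Type*} [Group G] {p : ℕ} {P : Subgroup G} {e : ℕ}
    {X Y : Finset (IrrCharacter G)} {δ : IrrCharacter G → ℤ} {ε : ℤ}
    (h : B0Data p P e X Y δ ε) (t : ℕ) (het : e * t = p - 1) (he : 0 < e) : Y.card = t := by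
  have h1 := h.cardY
  rw [← het, mul_comm] at h1
  exact Nat.eq_of_mul_eq_mul_left he h1

/-- The sum over a subgroup of order `p` of a function equal to `c` off the identity. -/
theorem psum_const {G : Type*} [Group G] (P : Subgroup G) (p : ℕ) (hp : 0 < p)
    (hP : Nat.card P = p) (f : G → ℂ) (c : ℂ) (hc : ∀ x ∈ P, x ≠ 1 → f x = c) :
    ∑ᶠ x : ↥P, f (x : G) = f 1 + ((p : ℂ) - 1) * c := by
  classical
  have : Finite P := Nat.finite_of_card_ne_zero (by omega)
  have : Fintype P := Fintype.ofFinite P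
  rw [finsum_eq_sum_of_fintype, ← Finset.add_sum_erase Finset.univ _ (Finset.mem_univ (1 : P))]
  congr 1
  rw [Finset.sum_congr rfl (fun x hx => hc x.1 x.2 (by
    rw [Finset.mem_erase] at hx
    intro h0
    exact hx.1 (Subtype.ext h0))), Finset.sum_const, Finset.card_erase_of_mem (Finset.mem_univ _),
    Finset.card_univ, ← Nat.card_eq_fintype_card, hP, nsmul_eq_mul, Nat.cast_sub hp]
  simp

/-- Sum over `P` of a finite family of functions whose sum is `c` off the identity. -/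
theorem psum_finset_const {G : Type*} [Group G] (P : Subgroup G) (p : ℕ) (hp : 0 < p)
    (hP : Nat.card P = p) {ι : Type*} (s : Finset ι) (F : ι → G → ℂ) (c : ℂ)
    (hc : ∀ x ∈ P, x ≠ 1 → ∑ i ∈ s, F i x = c) :
    ∑ i ∈ s, ∑ᶠ x : ↥P, F i (x : G) = ∑ i ∈ s, F i 1 + ((p : ℂ) - 1) * c := by
  classical
  have : Finite P := Nat.finite_of_card_ne_zero (by omega)
  have : Fintype P := Fintype.ofFinite P
  rw [← psum_const P p hp hP (fun x => ∑ i ∈ s, F i x) c hc, finsum_eq_sum_of_fintype,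
    Finset.sum_comm]
  apply Finset.sum_congr rfl
  intro i _
  rw [finsum_eq_sum_of_fintype]

end Cfsg.Agent.H21.BR
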