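import Mathlib
import Cfsg.Agent.H21.PrimeSylow

set_option autoImplicit false

namespace Cfsg.Agent.H21

open Subgroup

/-- An element commuting with a generator of `P` centralizes `P`. -/
theorem mem_centralizer_of_commute_gen {G : Type*} [Group G] (P : Subgroup G) (x₀ : G)
    (hP : P = zpowers x₀) (w : G) (hw : w * x₀ = x₀ * w) : w ∈ centralizer (P : Set G) := by
  rw [mem_centralizer_iff]
  intro h hh
  have hh' : h ∈ zpowers x₀ := by rw [← hP]; exact hh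
  obtain ⟨k, rfl⟩ := mem_zpowers_iff.1 hh'
  have hc : Commute x₀ w := hw.symm
  exact (hc.zpow_left k).eq

/-- An element of the normalizer of `P = ⟨x₀⟩` acts on `P` as a power map. -/
theorem exists_zpow_conj_of_mem_normalizer {G : Type*} [Group G] (P : Subgroup G) (x₀ : G)
    (hP : P = zpowers x₀) (n : G) (hn : n ∈ normalizer (P : Set G)) :
    ∃ k : ℤ, ∀ j : ℤ, n * x₀ ^ j * n⁻¹ = x₀ ^ (k * j) := by
  have hx : x₀ ∈ P := by rw [hP]; exact mem_zpowers x₀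
  have h1 : n * x₀ * n⁻¹ ∈ P := (mem_normalizer_iff.1 hn x₀).1 hx
  rw [hP] at h1
  obtain ⟨k, hk⟩ := mem_zpowers_iff.1 h1
  refine ⟨k, fun j => ?_⟩
  rw [zpow_mul, hk, conj_zpow]

/-- `N(P)/C(P)` is abelian for cyclic `P`: commutators of elements of `N(P)` centralize `P`. -/
theorem commutator_mem_centralizer_of_cyclic {G : Type*} [Group G] (P : Subgroup G) (x₀ : G)
    (hP : P = zpowers x₀) (y t : G) (hy : y ∈ normalizer (P : Set G))
    (ht : t ∈ normalizer (P : Set G)) : t⁻¹ * (y * t * y⁻¹) ∈ centralizer (P : Set G) := by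
  obtain ⟨k1, h1⟩ := exists_zpow_conj_of_mem_normalizer P x₀ hP y⁻¹ (inv_mem hy)
  obtain ⟨k2, h2⟩ := exists_zpow_conj_of_mem_normalizer P x₀ hP t ht
  obtain ⟨k3, h3⟩ := exists_zpow_conj_of_mem_normalizer P x₀ hP y hy
  obtain ⟨k4, h4⟩ := exists_zpow_conj_of_mem_normalizer P x₀ hP t⁻¹ (inv_mem ht)
  have e13 : x₀ ^ (k3 * k1) = x₀ := by
    have a : x₀ ^ k1 = y⁻¹ * x₀ * y := by
      have := h1 1
      simp only [inv_inv, zpow_one, mul_one] at this
      exact this.symm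
    rw [← h3 k1, a]
    group
  have e24 : x₀ ^ (k4 * k2) = x₀ := by
    have a : x₀ ^ k2 = t * x₀ * t⁻¹ := by
      have := h2 1
      simp only [zpow_one, mul_one] at this
      exact this.symm
    rw [← h4 k2, a]
    group
  apply mem_centralizer_of_commute_gen P x₀ hP
  have key : (t⁻¹ * (y * t * y⁻¹)) * x₀ * (t⁻¹ * (y * t * y⁻¹))⁻¹ = x₀ := by
    have e : (t⁻¹ * (y * t * y⁻¹)) * x₀ * (t⁻¹ * (y * t * y⁻¹))⁻¹ =
        t⁻¹ * (y * (t * (y⁻¹ * x₀ ^ (1 : ℤ) * y⁻¹⁻¹) * t⁻¹) * y⁻¹) * t⁻¹⁻¹ := by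
      simp only [inv_inv, zpow_one]
      group
    rw [e, h1 1, h2, h3, h4]
    have e2 : k4 * (k3 * (k2 * (k1 * 1))) = (k3 * k1) * (k4 * k2) := by ring
    rw [e2, zpow_mul, e13, e24]
  calc (t⁻¹ * (y * t * y⁻¹)) * x₀
      = ((t⁻¹ * (y * t * y⁻¹)) * x₀ * (t⁻¹ * (y * t * y⁻¹))⁻¹) * (t⁻¹ * (y * t * y⁻¹)) := by group
    _ = x₀ * (t⁻¹ * (y * t * y⁻¹)) := by rw [key]

/-- `C(P)` is normalized by `N(P)`. -/
theorem conj_mem_centralizer_of_mem_normalizer {G : Type*} [Group G] (P : Subgroup G) (y c : G)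
    (hy : y ∈ normalizer (P : Set G)) (hc : c ∈ centralizer (P : Set G)) :
    y * c * y⁻¹ ∈ centralizer (P : Set G) := by
  rw [mem_centralizer_iff]
  intro h hh
  have h1 : y⁻¹ * h * y⁻¹⁻¹ ∈ P := (mem_normalizer_iff.1 (inv_mem hy) h).1 hh
  rw [inv_inv] at h1
  have h2 := (mem_centralizer_iff.1 hc) _ h1
  calc h * (y * c * y⁻¹) = y * ((y⁻¹ * h * y) * c) * y⁻¹ := by group
    _ = y * (c * (y⁻¹ * h * y)) * y⁻¹ := by rw [h2]
    _ = y * c * y⁻¹ * h := by group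

/-- An involution of `N(P) ∖ C(P)` inverts `P = ⟨x₀⟩` (`|P| = p` prime). -/
theorem involution_inverts_of_not_mem_centralizer {G : Type*} [Group G] {p : ℕ}
    [Fact p.Prime] (P : Subgroup G) (x₀ : G) (hP : P = zpowers x₀) (hx₀ : orderOf x₀ = p)
    (u : G) (hu : u ^ 2 = 1) (huN : u ∈ normalizer (P : Set G))
    (huC : u ∉ centralizer (P : Set G)) : u * x₀ * u⁻¹ = x₀⁻¹ := by
  have hp : p.Prime := Fact.out
  obtain ⟨k, hk⟩ := exists_zpow_conj_of_mem_normalizer P x₀ hP u huN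
  have hk1 : u * x₀ * u⁻¹ = x₀ ^ k := by
    have := hk 1
    simpa using this
  have hkk : x₀ ^ (k * k) = x₀ := by
    rw [← hk k, ← hk1]
    have : u * (u * x₀ * u⁻¹) * u⁻¹ = u ^ 2 * x₀ * (u ^ 2)⁻¹ := by
      rw [pow_two]; group
    rw [this, hu]
    simp
  have hdvd : (p : ℤ) ∣ (k - 1) * (k + 1) := by
    rw [← hx₀]
    apply orderOf_dvd_iff_zpow_eq_one.2
    have e : (k - 1) * (k + 1) = k * k - 1 := by ring
    rw [e, zpow_sub, hkk, zpow_one, mul_inv_cancel]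
  rcases (Nat.prime_iff_prime_int.1 hp).dvd_or_dvd hdvd with h | h
  · exfalso
    apply huC
    apply mem_centralizer_of_commute_gen P x₀ hP
    have h1 : x₀ ^ (k - 1) = 1 := by
      apply orderOf_dvd_iff_zpow_eq_one.1
      rw [hx₀]; exact h
    have h2 : x₀ ^ k = x₀ := by
      have : x₀ ^ k = x₀ ^ (k - 1) * x₀ := by rw [← zpow_add_one]; ring_nf
      rw [this, h1, one_mul]
    rw [h2] at hk1
    calc u * x₀ = (u * x₀ * u⁻¹) * u := by group
      _ = x₀ * u := by rw [hk1]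
  · have h1 : x₀ ^ (k + 1) = 1 := by
      apply orderOf_dvd_iff_zpow_eq_one.1
      rw [hx₀]; exact h
    rw [hk1]
    have : x₀ ^ k = x₀ ^ (k + 1) * x₀⁻¹ := by rw [zpow_add_one]; group
    rw [this, h1, one_mul]

/-- The product of two involutions of `N(P) ∖ C(P)` centralizes `P` (`|P|` prime). -/
theorem mul_mem_centralizer_of_involutions {G : Type*} [Group G] {p : ℕ}
    [Fact p.Prime] (P : Subgroup G) (x₀ : G) (hP : P = zpowers x₀) (hx₀ : orderOf x₀ = p)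
    (u v : G) (hu : u ^ 2 = 1) (huN : u ∈ normalizer (P : Set G))
    (huC : u ∉ centralizer (P : Set G)) (hv : v ^ 2 = 1) (hvN : v ∈ normalizer (P : Set G))
    (hvC : v ∉ centralizer (P : Set G)) : u * v ∈ centralizer (P : Set G) := by
  have h1 := involution_inverts_of_not_mem_centralizer P x₀ hP hx₀ u hu huN huC
  have h2 := involution_inverts_of_not_mem_centralizer P x₀ hP hx₀ v hv hvN hvC
  apply mem_centralizer_of_commute_gen P x₀ hP
  have key : (u * v) * x₀ * (u * v)⁻¹ = x₀ := by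
    have : (u * v) * x₀ * (u * v)⁻¹ = u * (v * x₀ * v⁻¹) * u⁻¹ := by group
    rw [this, h2]
    have : u * x₀⁻¹ * u⁻¹ = (u * x₀ * u⁻¹)⁻¹ := by group
    rw [this, h1, inv_inv]
  calc u * v * x₀ = ((u * v) * x₀ * (u * v)⁻¹) * (u * v) := by group
    _ = x₀ * (u * v) := by rw [key]

end Cfsg.Agent.H21
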