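import Cfsg.Agent.S4709
import Cfsg.Agent.S0947
import Cfsg.Agent.S0910
import Cfsg.Agent.S0907
import Cfsg.Agent.H21.ResidueTrick
import Cfsg.Agent.H21.SimpleTools
import Cfsg.Agent.H21.PrimeSylow
import Cfsg.Agent.H21.PrimeNC
import Cfsg.Agent.H78.DefectZero

/-!
# The principal `r`-block when a Sylow `r`-subgroup `P` has prime order, `C(P) = P`, `|N(P):P| = 2`

(helper21)  Consequences of the Brauer–Leonard theorem S4709 with `m = 2`: the principal block
consists of the principal character, one further character `χ` with `χ(y) = a = ±1` on `P \ 1`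
and `(r - 1) / 2` characters `η` with `ε η = 1 + a χ` on `r`-regular elements.  All other
irreducible characters have degree divisible by `r`.
-/

set_option autoImplicit false
set_option linter.unusedSectionVars false
set_option linter.style.haveILetI false

namespace Cfsg.Agent.H21.E2Block

open Cfsg

open scoped ComplexConjugate

/-- The principal character as an irreducible character. -/
noncomputable def triv (G : Type*) [Group G] : IrrCharacter G :=
  ⟨fun _ => 1, Cfsg.Agent.H4.isIrrCharacter_one⟩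

theorem triv_apply {G : Type*} [Group G] (g : G) : (triv G : G → ℂ) g = 1 := rfl

/-- The centralizer of a non-identity element of a Sylow subgroup of prime order. -/
theorem centralizer_singleton_eq {G : Type*} [Group G] [Finite G] (r : ℕ) [Fact r.Prime]
    (P : Sylow r G) (hP : Nat.card P = r) (y : G) (hy : y ∈ (P : Subgroup G)) (hy1 : y ≠ 1) :
    Subgroup.centralizer ({y} : Set G) = Subgroup.centralizer ((P : Subgroup G) : Set G) := by
  have hr : r.Prime := Fact.out
  have hord : orderOf y = r :=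
    Cfsg.Agent.H21.orderOf_eq_of_mem_card_prime hr (P : Subgroup G) hP y hy hy1
  have hz : (P : Subgroup G) = Subgroup.zpowers y :=
    Cfsg.Agent.H21.eq_zpowers_of_card_prime (P : Subgroup G) hP y hy hord
  ext w
  constructor
  · intro hw
    rw [Subgroup.mem_centralizer_iff] at hw
    have := hw y (Set.mem_singleton y)
    exact Cfsg.Agent.H21.mem_centralizer_of_commute_gen (P : Subgroup G) y hz w this.symm
  · intro hw
    rw [Subgroup.mem_centralizer_iff] at hw ⊢
    intro h hh
    rw [Set.mem_singleton_iff] at hh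
    subst hh
    exact hw h hy

/-- Structure of the principal `r`-block. -/
theorem e2_structure {G : Type*} [Group G] [Finite G] [IsSimpleGroup G]
    (hna : ∃ a b : G, a * b ≠ b * a) (r : ℕ) [Fact r.Prime] (hr5 : 5 ≤ r)
    (M : Ideal AlgInt) (hM : IsPModular r M) (P : Sylow r G)
    (hP : Nat.card P = r)
    (hN : (Subgroup.centralizer ((P : Subgroup G) : Set G)).relIndex
        (Subgroup.normalizer ((P : Subgroup G) : Set G)) = 2) :
    ∃ (χ : IrrCharacter G) (Y : Set (IrrCharacter G)) (a ε : ℤ),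
      principalBlock M G = {triv G, χ} ∪ Y ∧ χ ≠ triv G ∧ triv G ∉ Y ∧ χ ∉ Y ∧
      Nat.card Y = (r - 1) / 2 ∧ (a = 1 ∨ a = -1) ∧ (ε = 1 ∨ ε = -1) ∧
      (∀ y ∈ (P : Subgroup G), y ≠ 1 → (χ : G → ℂ) y = a) ∧
      (∀ η ∈ Y, ∀ g : G, ¬ r ∣ orderOf g →
        (ε : ℂ) * (η : G → ℂ) g = 1 + a * (χ : G → ℂ) g) := by
  classical
  have hr : r.Prime := Fact.out
  haveI := Cfsg.Agent.H4.finite_irr G
  haveI hcyc : IsCyclic (P : Subgroup G) := isCyclic_of_prime_card hP
  have hab : IsMulCommutative P := ⟨⟨fun a b =>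
    (IsCyclic.commGroup (α := (P : Subgroup G))).mul_comm a b⟩⟩
  have hP1 : Nat.card P ≠ 1 := by rw [hP]; exact hr.one_lt.ne'
  obtain ⟨C, hCdef⟩ : ∃ C : Subgroup G, C = Subgroup.centralizer ((P : Subgroup G) : Set G) :=
    ⟨_, rfl⟩
  obtain ⟨N, hNdef⟩ : ∃ N : Subgroup G, N = Subgroup.normalizer ((P : Subgroup G) : Set G) :=
    ⟨_, rfl⟩
  have hCN : C ≤ N := by rw [hCdef, hNdef]; exact Subgroup.centralizer_le_normalizer _
  -- N = C ⊔ ⟨g⟩
  have hcycN : ∃ g : G, g ∈ Subgroup.normalizer ((P : Subgroup G) : Set G) ∧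
      Subgroup.centralizer ((P : Subgroup G) : Set G) ⊔ Subgroup.zpowers g =
        Subgroup.normalizer ((P : Subgroup G) : Set G) := by
    rw [← hCdef, ← hNdef] at hN ⊢
    have hnle : ¬ N ≤ C := by
      intro h
      have := Subgroup.relIndex_eq_one.mpr h
      omega
    obtain ⟨g, hgN, hgC⟩ := SetLike.not_le_iff_exists.mp hnle
    refine ⟨g, hgN, ?_⟩
    have hKN : C ⊔ Subgroup.zpowers g ≤ N :=
      sup_le hCN (by rw [Subgroup.zpowers_le]; exact hgN)
    have hCK : C ≤ C ⊔ Subgroup.zpowers g := le_sup_left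
    have hmul := Subgroup.relIndex_mul_relIndex C (C ⊔ Subgroup.zpowers g) N hCK hKN
    rw [hN] at hmul
    have h1 : C.relIndex (C ⊔ Subgroup.zpowers g) ≠ 1 := by
      intro h
      have h2 := Subgroup.relIndex_eq_one.mp h
      exact hgC (h2 (le_sup_right (a := C) (Subgroup.mem_zpowers g)))
    have h3 : C.relIndex (C ⊔ Subgroup.zpowers g) ∣ 2 := Dvd.intro _ hmul
    have h4 : C.relIndex (C ⊔ Subgroup.zpowers g) = 2 := by
      rcases (Nat.dvd_prime Nat.prime_two).mp h3 with h | h
      · exact absurd h h1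
      · exact h
    rw [h4] at hmul
    have h5 : (C ⊔ Subgroup.zpowers g).relIndex N = 1 := by omega
    exact le_antisymm hKN (Subgroup.relIndex_eq_one.mp h5)
  have hfrob : ∀ y : G, y ∈ (P : Subgroup G) → y ≠ 1 →
      Subgroup.centralizer ({y} : Set G) ⊓ Subgroup.normalizer ((P : Subgroup G) : Set G) =
        Subgroup.centralizer ((P : Subgroup G) : Set G) := by
    intro y hy hy1
    rw [centralizer_singleton_eq r P hP y hy hy1]
    exact inf_eq_left.mpr (Subgroup.centralizer_le_normalizer _)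
  obtain ⟨s, X, Y, hs, hB, hdisj, hXs, hYc, ⟨χ₁, hχ₁X, hχ₁⟩, a, d, δ, ζ, hδ, hA, -, -, -, -,
      hnorm, -, hrel⟩ :=
    Cfsg.Agent.S4709.result r M hM P hab hP1 2 (by norm_num) (by rw [hP]; omega) hN hcycN hfrob
  have hχ₁eq : χ₁ = triv G := Subtype.ext hχ₁
  rw [hχ₁eq] at hχ₁X
  -- an element of order `r`
  obtain ⟨y0, hy0P, hy0⟩ : ∃ y0 ∈ (P : Subgroup G), orderOf y0 = r :=
    Cfsg.Agent.H21.exists_mem_orderOf_eq_prime (P : Subgroup G) r (by rw [hP])
  have hy01 : y0 ≠ 1 := by
    rintro rfl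
    rw [orderOf_one] at hy0
    exact hr.one_lt.ne hy0
  have hpp : ∀ y : G, orderOf y = r → IsPPart r y y := fun y hy =>
    ⟨1, mul_one y, Commute.one_right y, ⟨1, by rw [hy, pow_one]⟩, by
      rw [orderOf_one]; exact hr.not_dvd_one⟩
  have ha0 : a (triv G) = 1 := by
    have h1 := (hA (triv G) hχ₁X).2 y0 y0 (hpp y0 hy0) hy0P hy01
    rw [triv_apply] at h1
    exact_mod_cast h1.symm
  have hreg1 : ¬ r ∣ orderOf (1 : G) := by rw [orderOf_one]; exact hr.not_dvd_one
  have hXfin : X.Finite := Set.toFinite X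
  have hXncard : X.ncard = s := by rw [← hXs, _root_.Nat.card_coe_set_eq]
  have hYncard : Y.ncard = (r - 1) / 2 := by rw [← _root_.Nat.card_coe_set_eq, hYc, hP]
  by_cases hXeq : X = {triv G}
  · -- impossible: some `η ∈ Y` would be linear
    exfalso
    have hYne : Y.Nonempty := by
      rw [← Set.ncard_pos (Set.toFinite Y), hYncard]
      omega
    obtain ⟨η, hη⟩ := hYne
    have h1 := hrel η hη 1 hreg1
    rw [hXeq, finsum_mem_singleton, ha0, triv_apply] at h1
    obtain ⟨hd1, hdpos⟩ := Cfsg.Agent.H81.irr_charDegree η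
    rw [hd1] at h1
    obtain ⟨n, hn⟩ : ∃ n : ℕ, n = charDegree (η : G → ℂ) := ⟨_, rfl⟩
    rw [← hn] at h1 hdpos hd1
    obtain ⟨t, ht⟩ : ∃ t : ℕ, t = (Nat.card P - 1) / 2 := ⟨_, rfl⟩
    rw [← ht] at h1
    have h2 : ((t : ℤ) * d - δ) * (n : ℤ) + 1 = 0 := by
      have : ((((t : ℤ) * d - δ) * (n : ℤ) + 1 : ℤ) : ℂ) = ((0 : ℤ) : ℂ) := by
        push_cast; push_cast at h1; linear_combination h1
      exact_mod_cast this
    have h3 : (n : ℤ) ∣ 1 := ⟨-((t : ℤ) * d - δ), by linarith⟩
    have h4 : n = 1 := by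
      have h5 : n ∣ 1 := by exact_mod_cast h3
      exact Nat.dvd_one.mp h5
    have hdeg : (η : G → ℂ) 1 = (r : ℂ) ^ 0 := by rw [hd1, h4]; simp
    have h6 := Cfsg.Agent.S0910.result r M hM hna η (by rw [hB]; exact Or.inr hη) 0 hdeg
    have h7 : η = triv G := Subtype.ext h6
    rw [h7] at hη
    exact Set.disjoint_left.mp hdisj hχ₁X hη
  · -- `X = {1, χ}`
    have hex : ∃ χ ∈ X, χ ≠ triv G := by
      by_contra hcon
      push Not at hcon
      apply hXeq
      ext ψ
      constructor
      · intro hψ; exact hcon ψ hψ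
      · intro hψ; rw [Set.mem_singleton_iff] at hψ; rw [hψ]; exact hχ₁X
    obtain ⟨χ, hχX, hχne⟩ := hex
    have hXpair : X = {triv G, χ} := by
      symm
      apply Set.eq_of_subset_of_ncard_le _ _ hXfin
      · intro ψ hψ
        rcases hψ with h | h
        · rw [h]; exact hχ₁X
        · rw [Set.mem_singleton_iff] at h; rw [h]; exact hχX
      · rw [Set.ncard_pair (Ne.symm hχne), hXncard]; exact hs
    obtain ⟨A, hAdef⟩ : ∃ A : ℤ, A = a χ := ⟨_, rfl⟩
    have hA0 : A ≠ 0 := by rw [hAdef]; exact (hA χ hχX).1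
    rw [hXpair, finsum_mem_pair (Ne.symm hχne), ha0, ← hAdef, hP] at hnorm
    obtain ⟨t, ht⟩ : ∃ t : ℕ, t = (r - 1) / 2 := ⟨_, rfl⟩
    have ht2 : 2 ≤ t := by omega
    have hT : ((r : ℤ) - 1) / ((2 : ℕ) : ℤ) - 1 = (t : ℤ) - 1 := by
      rw [ht]; push_cast; omega
    rw [hT] at hnorm
    have hnorm' : (d - δ) ^ 2 + ((t : ℤ) - 1) * d ^ 2 + A ^ 2 = 2 := by
      push_cast at hnorm; linarith
    have hA1 : 1 ≤ A ^ 2 := by
      rcases lt_or_gt_of_ne hA0 with h | h
      · nlinarith
      · nlinarith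
    have htd : 0 ≤ ((t : ℤ) - 1) * d ^ 2 := by
      apply mul_nonneg
      · have : (2 : ℤ) ≤ t := by exact_mod_cast ht2
        linarith
      · positivity
    have hkey : (A = 1 ∨ A = -1) ∧ (δ - (t : ℤ) * d = 1 ∨ δ - (t : ℤ) * d = -1) := by
      have ht2' : (2 : ℤ) ≤ t := by exact_mod_cast ht2
      have hdδ : (d - δ) ^ 2 ≤ 1 := by nlinarith
      have hAle : A ^ 2 ≤ 2 := by nlinarith [sq_nonneg (d - δ)]
      have hA' : A = 1 ∨ A = -1 := by
        have h1 : -1 ≤ A := by nlinarith
        have h2 : A ≤ 1 := by nlinarith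
        have h3 : A = -1 ∨ A = 0 ∨ A = 1 := by omega
        rcases h3 with h | h | h
        · exact Or.inr h
        · exact absurd h hA0
        · exact Or.inl h
      refine ⟨hA', ?_⟩
      have hA2 : A ^ 2 = 1 := by rcases hA' with h | h <;> rw [h] <;> norm_num
      have hd1 : -1 ≤ d - δ := by nlinarith
      have hd2 : d - δ ≤ 1 := by nlinarith
      rcases hδ with hδ1 | hδ1
      · subst hδ1
        have hd3 : d = 0 ∨ d = 1 ∨ d = 2 := by omega
        rcases hd3 with h | h | h
        · subst h; left; ring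
        · subst h
          have : (t : ℤ) = 2 := by nlinarith
          right; rw [this]; norm_num
        · subst h; exfalso; nlinarith
      · subst hδ1
        have hd3 : d = 0 ∨ d = -1 ∨ d = -2 := by omega
        rcases hd3 with h | h | h
        · subst h; right; ring
        · subst h
          have : (t : ℤ) = 2 := by nlinarith
          left; rw [this]; norm_num
        · subst h; exfalso; nlinarith
    refine ⟨χ, Y, A, δ - (t : ℤ) * d, ?_, hχne, ?_, ?_, ?_, hkey.1, hkey.2, ?_, ?_⟩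
    · rw [hB, hXpair]
    · exact fun h => Set.disjoint_left.mp hdisj hχ₁X h
    · exact fun h => Set.disjoint_left.mp hdisj hχX h
    · rw [hYc, hP]
    · intro y hy hy1
      have hord : orderOf y = r :=
        Cfsg.Agent.H21.orderOf_eq_of_mem_card_prime hr (P : Subgroup G) hP y hy hy1
      rw [hAdef]
      exact (hA χ hχX).2 y y (hpp y hord) hy hy1
    · intro η hη g hg
      have h1 := hrel η hη g hg
      rw [hXpair, finsum_mem_pair (Ne.symm hχne), ha0, ← hAdef, triv_apply, hP, ← ht] at h1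
      push_cast
      push_cast at h1
      linear_combination -h1

end Cfsg.Agent.H21.E2Block
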