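import Cfsg.Agent.H21.E2Wbo
import Cfsg.Agent.H21.BrauerTuan

/-!
# Setup for simple groups of order `2^a 3^b r` whose Sylow `r`-normalizer has order `2r` (helper21)
-/

set_option autoImplicit false
set_option linter.unusedSectionVars false
set_option linter.style.haveILetI false

namespace Cfsg.Agent.H21.E2Block

open Cfsg

open scoped ComplexConjugate

/-- The block-theoretic data available in a simple group of order `2^a 3^b r` in which the
Sylow counting forces `|N(P) : P| = 2` for a Sylow `r`-subgroup `P`. -/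
theorem e2_setup {G : Type*} [Group G] [Finite G] [IsSimpleGroup G]
    (hna : ∃ u v : G, u * v ≠ v * u) (r a b : ℕ) [Fact r.Prime] (hr5 : 5 ≤ r)
    (hcard : Nat.card G = 2 ^ a * 3 ^ b * r)
    (hnum : ∀ d n : ℕ, d ∣ r - 1 → d ≠ 1 → r * d * n = 2 ^ a * 3 ^ b * r → n % r = 1 → d = 2)
    (M : Ideal AlgInt) (hM : IsPModular r M) :
    ∃ (χ : IrrCharacter G) (Y : Set (IrrCharacter G)) (η₁ : IrrCharacter G) (x y : ℕ),
      principalBlock M G = {triv G, χ} ∪ Y ∧ χ ≠ triv G ∧ triv G ∉ Y ∧ χ ∉ Y ∧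
      Y.ncard = (r - 1) / 2 ∧ η₁ ∈ Y ∧
      (∀ ψ : IrrCharacter G, ψ ∉ principalBlock M G → r ∣ charDegree (ψ : G → ℂ)) ∧
      (χ : G → ℂ) 1 = x ∧ (∀ η ∈ Y, (η : G → ℂ) 1 = y) ∧
      (∀ η ∈ Y, ∀ g : G, ¬ r ∣ orderOf g → (η : G → ℂ) g = (η₁ : G → ℂ) g) ∧
      x ∣ Nat.card G ∧ y ∣ Nat.card G ∧ 2 ≤ x ∧ x ^ 2 ≤ Nat.card G ∧
      ((r ∣ x - 1 ∧ y = x + 1) ∨ (r ∣ x + 1 ∧ y + 1 = x)) := by
  classical
  have hr : r.Prime := Fact.out
  have hG : ¬ IsMulCommutative G := by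
    intro h
    obtain ⟨u, v, huv⟩ := hna
    exact huv (h.is_comm.comm u v)
  have h2r : 2 ≠ r := by omega
  have h3r : 3 ≠ r := by omega
  let P : Sylow r G := default
  have hP : Nat.card P = r :=
    BrauerTuan.card_sylow 2 3 r a b Nat.prime_two Nat.prime_three h2r h3r hcard P
  have hC : Subgroup.centralizer ((P : Subgroup G) : Set G) = (P : Subgroup G) :=
    BrauerTuan.centralizer_sylow_eq 2 3 r a b Nat.prime_two Nat.prime_three h2r h3r hcard P
  obtain ⟨d, hd, hd1, hdr, -⟩ := Cfsg.Agent.H21.simple_sylow_prime_card_NC hG P hP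
  have hcardN := Cfsg.Agent.H21.card_centralizer_mul_relIndex_normalizer (P : Subgroup G)
  rw [← hd, hC] at hcardN
  have hnd : ¬ r ∣ 2 ^ a * 3 ^ b := by
    intro h
    rcases (Nat.Prime.dvd_mul hr).mp h with h | h
    · have := Nat.le_of_dvd (by norm_num) (hr.dvd_of_dvd_pow h)
      omega
    · have := Nat.le_of_dvd (by norm_num) (hr.dvd_of_dvd_pow h)
      omega
  obtain ⟨-, -, -, -, hmod, -, -, hNn, -⟩ := Cfsg.Agent.H21.simple_sylow_facts hG (p := r)
    (k := 1) (m := 2 ^ a * 3 ^ b) (by rw [hcard, pow_one, mul_comm]) hnd one_ne_zero P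
  have hPc : Nat.card (P : Subgroup G) = r := hP
  rw [← hcardN, hPc, hcard] at hNn
  have hd2 : d = 2 := hnum d _ hdr hd1 hNn hmod
  have hN2 : (Subgroup.centralizer ((P : Subgroup G) : Set G)).relIndex
      (Subgroup.normalizer ((P : Subgroup G) : Set G)) = 2 := by rw [← hd, hd2]
  obtain ⟨χ, Y, a', ε, hB, hχne, h0Y, hχY, hYc, ha, hε, hχP, hrel⟩ :=
    e2_structure hna r hr5 M hM P hP hN2
  have hout := fun ψ hψ => outside_dvd r M hM P hP hC ψ hψ
  -- degrees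
  obtain ⟨hx1, hxpos⟩ := Cfsg.Agent.H81.irr_charDegree χ
  have hxdvd := Cfsg.Agent.H81.irr_charDegree_dvd χ
  have hxsq := irr_degree_sq_le χ
  obtain ⟨x, hx⟩ : ∃ x : ℕ, x = charDegree (χ : G → ℂ) := ⟨_, rfl⟩
  rw [← hx] at hx1 hxpos hxdvd hxsq
  have hxa : (r : ℤ) ∣ (x : ℤ) - a' := ResidueTrick.dvd_degree_sub_of_const
    (Cfsg.Agent.H4.isCharacter_of_isIrrCharacter χ.2) (P : Subgroup G) r hr hP x hx1 a' hχP
  have hx_ne1 : x ≠ 1 := by
    intro h
    have hdeg : (χ : G → ℂ) 1 = (r : ℂ) ^ 0 := by rw [hx1, h]; simp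
    have := Cfsg.Agent.S0910.result r M hM hna χ (by rw [hB]; exact Or.inl (Or.inr rfl)) 0 hdeg
    exact hχne (Subtype.ext this)
  have hYn : Y.ncard = (r - 1) / 2 := by rw [← _root_.Nat.card_coe_set_eq, hYc]
  obtain ⟨η₁, hη₁⟩ : Y.Nonempty := by
    rw [← Set.ncard_pos (Set.toFinite Y), hYn]; omega
  obtain ⟨hy1, hypos⟩ := Cfsg.Agent.H81.irr_charDegree η₁
  have hydvd := Cfsg.Agent.H81.irr_charDegree_dvd η₁
  obtain ⟨y, hy⟩ : ∃ y : ℕ, y = charDegree (η₁ : G → ℂ) := ⟨_, rfl⟩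
  rw [← hy] at hy1 hypos hydvd
  have hreg1 : ¬ r ∣ orderOf (1 : G) := by rw [orderOf_one]; exact hr.not_dvd_one
  have hrel1 : ε * (y : ℤ) = 1 + a' * (x : ℤ) := by
    have h1 := hrel η₁ hη₁ 1 hreg1
    rw [hy1, hx1] at h1
    exact_mod_cast h1
  have hεne : (ε : ℂ) ≠ 0 := by rcases hε with h | h <;> rw [h] <;> norm_num
  have hYeq : ∀ η ∈ Y, ∀ g : G, ¬ r ∣ orderOf g → (η : G → ℂ) g = (η₁ : G → ℂ) g := by
    intro η hη g hg
    have h1 := hrel η hη g hg
    have h2 := hrel η₁ hη₁ g hg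
    exact mul_left_cancel₀ hεne (h1.trans h2.symm)
  refine ⟨χ, Y, η₁, x, y, hB, hχne, h0Y, hχY, hYn, hη₁, hout, hx1, ?_, hYeq, hxdvd, hydvd,
    by omega, hxsq, ?_⟩
  · intro η hη
    rw [hYeq η hη 1 hreg1, hy1]
  · rcases ha with ha1 | ha1
    · left
      subst ha1
      rcases hε with hε1 | hε1
      · subst hε1
        refine ⟨?_, by omega⟩
        have h1 : (r : ℤ) ∣ ((x - 1 : ℕ) : ℤ) := by
          rw [Nat.cast_sub (by omega)]; exact_mod_cast hxa
        exact_mod_cast h1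
      · subst hε1; exfalso; omega
    · right
      subst ha1
      rcases hε with hε1 | hε1
      · subst hε1; exfalso; omega
      · subst hε1
        refine ⟨?_, by omega⟩
        have h1 : (r : ℤ) ∣ ((x + 1 : ℕ) : ℤ) := by
          push_cast
          have : (x : ℤ) - -1 = (x : ℤ) + 1 := by ring
          rw [← this]; exact hxa
        exact_mod_cast h1

/-- Non-identity elements of a `2`-group have even order prime to `r`. -/
theorem two_elt_facts {G : Type*} [Group G] [Finite G] (S : Subgroup G) (e : ℕ)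
    (hS : Nat.card S = 2 ^ e) (r : ℕ) (hr : r.Prime) (hr2 : r ≠ 2)
    (g : G) (hg : g ∈ S) (hg1 : g ≠ 1) : 2 ∣ orderOf g ∧ ¬ r ∣ orderOf g := by
  have hord : orderOf g ∣ 2 ^ e := hS ▸ Cfsg.Agent.H21.orderOf_dvd_card_of_mem S g hg
  obtain ⟨j, -, hj2⟩ := (Nat.dvd_prime_pow Nat.prime_two).mp hord
  have hj0 : j ≠ 0 := by
    rintro rfl
    rw [pow_zero, orderOf_eq_one_iff] at hj2
    exact hg1 hj2
  refine ⟨by rw [hj2]; exact dvd_pow_self 2 hj0, ?_⟩
  intro h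
  rw [hj2] at h
  have h2 := hr.dvd_of_dvd_pow h
  exact hr2 ((Nat.prime_dvd_prime_iff_eq hr Nat.prime_two).mp h2)

end Cfsg.Agent.H21.E2Block
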