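import Cfsg.Agent.H21.E2Block

/-!
# Characters outside the principal `r`-block and weak block orthogonality modulo `r` (helper21)
-/

set_option autoImplicit false
set_option linter.unusedSectionVars false
set_option linter.style.haveILetI false

namespace Cfsg.Agent.H21.E2Block

open Cfsg

open scoped ComplexConjugate

/-- Characters outside the principal `r`-block vanish on `P \ 1` when `P` is a
self-centralizing Sylow `r`-subgroup of prime order. -/
theorem outside_vanish {G : Type*} [Group G] [Finite G] (r : ℕ) [Fact r.Prime]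
    (M : Ideal AlgInt) (hM : IsPModular r M) (P : Sylow r G) (hP : Nat.card P = r)
    (hC : Subgroup.centralizer ((P : Subgroup G) : Set G) = (P : Subgroup G))
    (ψ : IrrCharacter G) (hψ : ψ ∉ principalBlock M G) (y : G) (hy : y ∈ (P : Subgroup G))
    (hy1 : y ≠ 1) : (ψ : G → ℂ) y = 0 := by
  classical
  have hr : r.Prime := Fact.out
  haveI : Fintype G := Fintype.ofFinite G
  letI := Cfsg.Agent.H4.fintypeIrr G
  have hord : orderOf y = r :=
    Cfsg.Agent.H21.orderOf_eq_of_mem_card_prime hr (P : Subgroup G) hP y hy hy1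
  have hcent : Subgroup.centralizer ({y} : Set G) = (P : Subgroup G) := by
    rw [centralizer_singleton_eq r P hP y hy hy1, hC]
  have hcard : Nat.card (Subgroup.centralizer ({y} : Set G)) = r := by rw [hcent]; exact hP
  have h947 := (Cfsg.Agent.S0947.result r M hM y ⟨1, by rw [hord, pow_one]⟩ hy1
    (1 : Subgroup.centralizer ({y} : Set G)) (by rw [orderOf_one]; exact hr.not_dvd_one)).2 (by
      have hdvd := Subgroup.index_dvd_card (pPrimeCore r (Subgroup.centralizer ({y} : Set G)))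
      rw [hcard] at hdvd
      rcases (Nat.dvd_prime hr).mp hdvd with h | h
      · exact ⟨0, by rw [h, pow_zero]⟩
      · exact ⟨1, by rw [h, pow_one]⟩)
  rw [hcard, hr.factorization_self, pow_one] at h947
  simp only [Subgroup.coe_one, mul_one] at h947
  have hcol := Cfsg.Agent.H4.column_orthogonality (G := G) y y
  have hfib : Nat.card {c : G // c * y * c⁻¹ = y} = r := by
    have := Cfsg.Agent.H4.card_conj_fiber y (1 : G)
    simp only [one_mul, inv_one, mul_one] at this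
    rw [this, hcard]
  rw [hfib, Cfsg.Agent.H4.finsum_irr_eq_sum] at hcol
  have hcolR : ∑ χ : IrrCharacter G, ‖(χ : G → ℂ) y‖ ^ 2 = (r : ℝ) := by
    have h1 : ((∑ χ : IrrCharacter G, ‖(χ : G → ℂ) y‖ ^ 2 : ℝ) : ℂ) = ((r : ℝ) : ℂ) := by
      push_cast
      rw [← hcol]
      refine Finset.sum_congr rfl fun χ _ => ?_
      rw [Complex.mul_conj']
    exact_mod_cast h1
  have hfin : (principalBlock M G).Finite := Set.toFinite _
  rw [finsum_mem_eq_finite_toFinset_sum _ hfin] at h947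
  have hsplit := Finset.sum_add_sum_compl hfin.toFinset
    (fun χ : IrrCharacter G => ‖(χ : G → ℂ) y‖ ^ 2)
  rw [h947, hcolR] at hsplit
  have hzero : ∑ χ ∈ hfin.toFinsetᶜ, ‖(χ : G → ℂ) y‖ ^ 2 = 0 := by linarith
  have hmem : ψ ∈ hfin.toFinsetᶜ := by
    rw [Finset.mem_compl, Set.Finite.mem_toFinset]; exact hψ
  have h0 := (Finset.sum_eq_zero_iff_of_nonneg (fun χ _ => by positivity)).mp hzero ψ hmem
  have h1 : ‖(ψ : G → ℂ) y‖ = 0 := by simpa using h0
  exact norm_eq_zero.mp h1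

/-- Characters outside the principal `r`-block have degree divisible by `r`. -/
theorem outside_dvd {G : Type*} [Group G] [Finite G] (r : ℕ) [Fact r.Prime]
    (M : Ideal AlgInt) (hM : IsPModular r M) (P : Sylow r G) (hP : Nat.card P = r)
    (hC : Subgroup.centralizer ((P : Subgroup G) : Set G) = (P : Subgroup G))
    (ψ : IrrCharacter G) (hψ : ψ ∉ principalBlock M G) : r ∣ charDegree (ψ : G → ℂ) := by
  have hr : r.Prime := Fact.out
  obtain ⟨hd1, _⟩ := Cfsg.Agent.H81.irr_charDegree ψ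
  have h := ResidueTrick.dvd_degree_sub_of_const
    (Cfsg.Agent.H4.isCharacter_of_isIrrCharacter ψ.2) (P : Subgroup G) r hr hP
    (charDegree (ψ : G → ℂ)) hd1 0 (fun y hy hy1 => by
      rw [outside_vanish r M hM P hP hC ψ hψ y hy hy1]; simp)
  rw [sub_zero] at h
  exact_mod_cast h

/-- Weak block orthogonality for the prime `2`, read modulo `r`. -/
theorem wbo_split {G : Type*} [Group G] [Finite G] (r : ℕ)
    (M2 : Ideal AlgInt) (hM2 : IsPModular 2 M2)
    (χ : IrrCharacter G) (Y Br : Set (IrrCharacter G))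
    (hBr : Br = {triv G, χ} ∪ Y) (hne : χ ≠ triv G) (h0Y : triv G ∉ Y) (hχY : χ ∉ Y)
    (hout : ∀ ψ : IrrCharacter G, ψ ∉ Br → r ∣ charDegree (ψ : G → ℂ)) :
    ∃ (e k : ℕ), e ≤ 1 ∧ k ≤ Y.ncard ∧ (e = 1 → χ ∈ principalBlock M2 G) ∧
      (1 ≤ k → ∃ η ∈ Y, η ∈ principalBlock M2 G) ∧
      ∀ g : G, 2 ∣ orderOf g → ∀ (y : ℕ) (h : ℂ),
        (∀ η ∈ Y, (η : G → ℂ) 1 = y ∧ (η : G → ℂ) g = h) →
        ∃ w : ℂ, IsIntegral ℤ w ∧
          1 + (e : ℂ) * ((χ : G → ℂ) 1 * (χ : G → ℂ) g) + (k : ℂ) * ((y : ℂ) * h) =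
            (r : ℂ) * w := by
  classical
  haveI : Fact (Nat.Prime 2) := ⟨Nat.prime_two⟩
  haveI := Cfsg.Agent.H4.finite_irr G
  have hfin : (principalBlock M2 G).Finite := Set.toFinite _
  obtain ⟨B2, hB2⟩ : ∃ B2 : Finset (IrrCharacter G), B2 = hfin.toFinset := ⟨_, rfl⟩
  have hB2mem : ∀ ψ, ψ ∈ B2 ↔ ψ ∈ principalBlock M2 G := by
    intro ψ; rw [hB2, Set.Finite.mem_toFinset]
  have h0B2 : triv G ∈ B2 := by
    rw [hB2mem]; exact Cfsg.Agent.H81.mem_blockOf_self hM2 (triv G)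
  refine ⟨if χ ∈ B2 then 1 else 0, (B2.filter (· ∈ Y)).card, ?_, ?_, ?_, ?_, ?_⟩
  · split_ifs <;> omega
  · rw [← Set.ncard_coe_finset]
    apply Set.ncard_le_ncard _ (Set.toFinite Y)
    intro ψ hψ
    rw [Finset.mem_coe, Finset.mem_filter] at hψ
    exact hψ.2
  · intro he
    by_contra hcon
    rw [if_neg (fun h => hcon ((hB2mem χ).mp h))] at he
    exact absurd he (by norm_num)
  · intro hk
    obtain ⟨η, hη⟩ := Finset.card_pos.mp hk
    rw [Finset.mem_filter] at hη
    exact ⟨η, hη.2, (hB2mem η).mp hη.1⟩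
  · intro g hg y h hY
    have hB : IsPBlock M2 (principalBlock M2 G) := ⟨triv G, rfl⟩
    have h0 := Cfsg.Agent.S0907.result 2 M2 hM2 (principalBlock M2 G) hB 1 g⁻¹
      (by rw [orderOf_one]; exact Nat.prime_two.not_dvd_one) (by rw [orderOf_inv]; exact hg)
    rw [finsum_mem_eq_finite_toFinset_sum _ hfin, ← hB2] at h0
    have h0' : ∑ ψ ∈ B2, (ψ : G → ℂ) 1 * (ψ : G → ℂ) g = 0 := by
      rw [← h0]
      refine Finset.sum_congr rfl fun ψ _ => ?_
      rw [← Cfsg.Agent.H81.irr_inv ψ g⁻¹, inv_inv]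
    rw [← Finset.sum_filter_add_sum_filter_not B2 (· ∈ Br)] at h0'
    have hrest : ∃ w : ℂ, IsIntegral ℤ w ∧
        ∑ ψ ∈ B2.filter (fun ψ => ¬ ψ ∈ Br), (ψ : G → ℂ) 1 * (ψ : G → ℂ) g = (r : ℂ) * w := by
      refine Finset.sum_induction _ (fun z : ℂ => ∃ w : ℂ, IsIntegral ℤ w ∧ z = (r : ℂ) * w)
        ?_ ?_ ?_
      · rintro z₁ z₂ ⟨w₁, hw₁, rfl⟩ ⟨w₂, hw₂, rfl⟩
        exact ⟨w₁ + w₂, hw₁.add hw₂, by ring⟩
      · exact ⟨0, isIntegral_zero, by simp⟩
      · intro ψ hψ
        rw [Finset.mem_filter] at hψ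
        obtain ⟨c, hc⟩ := hout ψ hψ.2
        refine ⟨(c : ℂ) * (ψ : G → ℂ) g, (Cfsg.Agent.H4.isIntegral_natCast_complex c).mul
          (Cfsg.Agent.H81.irr_isIntegral ψ g), ?_⟩
        rw [(Cfsg.Agent.H81.irr_charDegree ψ).1, hc]; push_cast; ring
    obtain ⟨w, hw, hw2⟩ := hrest
    rw [hw2] at h0'
    have hin : ∑ ψ ∈ B2.filter (· ∈ Br), (ψ : G → ℂ) 1 * (ψ : G → ℂ) g =
        1 + ((if χ ∈ B2 then 1 else 0 : ℕ) : ℂ) * ((χ : G → ℂ) 1 * (χ : G → ℂ) g) +
          ((B2.filter (· ∈ Y)).card : ℂ) * ((y : ℂ) * h) := by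
      rw [Finset.sum_filter]
      have hpt : ∀ ψ ∈ B2, (if ψ ∈ Br then (ψ : G → ℂ) 1 * (ψ : G → ℂ) g else 0) =
          (if ψ = triv G then (1 : ℂ) else 0) +
            (if ψ = χ then (χ : G → ℂ) 1 * (χ : G → ℂ) g else 0) +
            (if ψ ∈ Y then (y : ℂ) * h else 0) := by
        intro ψ _
        by_cases h1 : ψ = triv G
        · subst h1
          rw [if_pos (by rw [hBr]; exact Or.inl (Or.inl rfl)), if_pos rfl, if_neg (Ne.symm hne),
            if_neg h0Y]
          simp [triv_apply]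
        · by_cases h2 : ψ = χ
          · subst h2
            rw [if_pos (by rw [hBr]; exact Or.inl (Or.inr rfl)), if_neg h1, if_pos rfl,
              if_neg hχY]
            simp
          · by_cases h3 : ψ ∈ Y
            · rw [if_pos (by rw [hBr]; exact Or.inr h3), if_neg h1, if_neg h2, if_pos h3,
                (hY ψ h3).1, (hY ψ h3).2]
              simp
            · rw [if_neg (by rw [hBr]; rintro ((h | h) | h); exacts [h1 h, h2 h, h3 h]),
                if_neg h1, if_neg h2, if_neg h3]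
              simp
      rw [Finset.sum_congr rfl hpt, Finset.sum_add_distrib, Finset.sum_add_distrib,
        Finset.sum_ite_eq' B2 (triv G) (fun _ => (1 : ℂ)), if_pos h0B2,
        Finset.sum_ite_eq' B2 χ (fun _ => (χ : G → ℂ) 1 * (χ : G → ℂ) g),
        ← Finset.sum_filter, Finset.sum_const, nsmul_eq_mul]
      split_ifs <;> simp
    rw [hin] at h0'
    exact ⟨-w, hw.neg, by linear_combination h0'⟩

/-- The square of an irreducible degree is at most the group order. -/
theorem irr_degree_sq_le {G : Type*} [Group G] [Finite G] (χ : IrrCharacter G) :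
    charDegree (χ : G → ℂ) ^ 2 ≤ Nat.card G := by
  classical
  letI := Cfsg.Agent.H4.fintypeIrr G
  have hsq : (Nat.card G : ℂ) =
      ∑ ψ : IrrCharacter G, ((charDegree (ψ : G → ℂ) : ℕ) : ℂ) ^ 2 := by
    rw [← Cfsg.Agent.H4.sum_irr_sq (G := G), Cfsg.Agent.H4.finsum_irr_eq_sum]
    refine Finset.sum_congr rfl fun ψ _ => ?_
    rw [(Cfsg.Agent.H81.irr_charDegree ψ).1]
  have hsq' : Nat.card G = ∑ ψ : IrrCharacter G, charDegree (ψ : G → ℂ) ^ 2 := by
    exact_mod_cast hsq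
  rw [hsq']
  exact Finset.single_le_sum (f := fun ψ : IrrCharacter G => charDegree (ψ : G → ℂ) ^ 2)
    (fun _ _ => Nat.zero_le _) (Finset.mem_univ χ)

/-- `1 / q` is not an algebraic integer. -/
theorem not_isIntegral_one_eq_mul (q : ℕ) (hq : 1 < q) (w : ℂ) (hw : IsIntegral ℤ w)
    (h : (1 : ℂ) = (q : ℂ) * w) : False := by
  have hq0 : q ≠ 0 := by omega
  have hint : IsIntegral ℤ (((1 : ℕ) : ℂ) / ((q : ℕ) : ℂ)) := by
    have : ((1 : ℕ) : ℂ) / ((q : ℕ) : ℂ) = w := by
      rw [div_eq_iff (by exact_mod_cast hq0)]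
      push_cast
      linear_combination h
    rw [this]; exact hw
  have := Cfsg.Agent.H81.nat_dvd_of_isIntegral_div hq0 hint
  have := Nat.dvd_one.mp this
  omega

end Cfsg.Agent.H21.E2Block
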