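import Mathlib
import Cfsg.Prelude.Def_Blocks
import Cfsg.Prelude.Def_Characters
import Cfsg.Agent.H21.E2Block

/-!
# Brauer–Reynolds (`p ^ 3 > |G|`): definitions for the team project S0999 (helper21)

`B0Data p P e X Y δ ε`: the principal `p`-block of `G` (Sylow `p`-subgroup `P` of order `p`,
`C(P) = P`, `|N(P) : P| = e`) is `X ∪ Y` with `X` the `e` non-exceptional characters (signs `δ`),
`Y` the `(p - 1) / e` exceptional characters (sign `ε`); every other irreducible character has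
degree divisible by `p` and vanishes on `P \ 1`.

`TauVals p t X Y δ τ s`: the values of the irreducible characters at an involution `τ` inverting
`P` (in the situation "type B").
-/

set_option autoImplicit false

namespace Cfsg.Agent.H21.BR

open Cfsg

/-- The principal character as an irreducible character (abbreviation). -/
noncomputable abbrev one (G : Type*) [Group G] : IrrCharacter G := Cfsg.Agent.H21.E2Block.triv G

/-- Character-theoretic description of the principal `p`-block and its complement. -/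
structure B0Data {G : Type*} [Group G] (p : ℕ) (P : Subgroup G) (e : ℕ)
    (X Y : Finset (IrrCharacter G)) (δ : IrrCharacter G → ℤ) (ε : ℤ) : Prop where
  disj : Disjoint X Y
  cardX : X.card = e
  cardY : Y.card * e = p - 1
  one_mem : one G ∈ X
  δ_one : δ (one G) = 1
  δ_pm : ∀ χ ∈ X, δ χ = 1 ∨ δ χ = -1
  ε_pm : ε = 1 ∨ ε = -1
  val_X : ∀ χ ∈ X, ∀ x ∈ P, x ≠ 1 → (χ : G → ℂ) x = (δ χ : ℂ)
  agree_Y : ∀ θ ∈ Y, ∀ θ' ∈ Y, ∀ g : G, ¬ p ∣ orderOf g → (θ : G → ℂ) g = (θ' : G → ℂ) g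
  rel : ∀ θ ∈ Y, ∀ g : G, ¬ p ∣ orderOf g →
    (ε : ℂ) * (θ : G → ℂ) g = ∑ χ ∈ X, (δ χ : ℂ) * (χ : G → ℂ) g
  out_dvd : ∀ ψ : IrrCharacter G, ψ ∉ X → ψ ∉ Y → p ∣ charDegree (ψ : G → ℂ)
  out_van : ∀ ψ : IrrCharacter G, ψ ∉ X → ψ ∉ Y → ∀ x ∈ P, x ≠ 1 → (ψ : G → ℂ) x = 0
  deg_X : ∀ χ ∈ X, (charDegree (χ : G → ℂ) : ℤ) ≡ δ χ [ZMOD p]
  deg_Y : ∀ θ ∈ Y, (charDegree (θ : G → ℂ) : ℤ) ≡ ε * (e : ℤ) [ZMOD p]
  two_le_X : ∀ χ ∈ X, χ ≠ one G → 2 ≤ charDegree (χ : G → ℂ)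
  two_le_Y : ∀ θ ∈ Y, 2 ≤ charDegree (θ : G → ℂ)

/-- The non-principal members of `X` with sign `+1`. -/
noncomputable def plusSet {G : Type*} [Group G] (X : Finset (IrrCharacter G))
    (δ : IrrCharacter G → ℤ) : Finset (IrrCharacter G) := by
  classical exact X.filter (fun χ => χ ≠ one G ∧ δ χ = 1)

/-- The members of `X` with sign `-1`. -/
noncomputable def minusSet {G : Type*} [Group G] (X : Finset (IrrCharacter G))
    (δ : IrrCharacter G → ℤ) : Finset (IrrCharacter G) := by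
  classical exact X.filter (fun χ => δ χ = -1)

/-- The degrees in "type B": `t = (p - 1) / e`, the `+`-characters have degree `t (p - e)`, the
`-`-characters have degree `p - 1`, the exceptional characters have degree `p - e` (sign `-1`),
and there are `(e - 2) / t` characters of `+` type. -/
structure TypeB {G : Type*} [Group G] (p e t : ℕ) (X Y : Finset (IrrCharacter G))
    (δ : IrrCharacter G → ℤ) (ε : ℤ) : Prop where
  het : e * t = p - 1
  he2 : 2 ≤ e
  ht2 : 2 ≤ t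
  hε : ε = -1
  deg_plus : ∀ χ ∈ plusSet X δ, charDegree (χ : G → ℂ) = t * (p - e)
  deg_minus : ∀ χ ∈ minusSet X δ, charDegree (χ : G → ℂ) = p - 1
  deg_Y : ∀ θ ∈ Y, charDegree (θ : G → ℂ) = p - e
  card_plus : (plusSet X δ).card * t = e - 2
  card_G : Nat.card G = p * (p - 1) * (p - e)

/-- The values at an involution `τ` inverting `P` (type B). -/
structure TauVals {G : Type*} [Group G] (p t : ℕ) (X Y : Finset (IrrCharacter G))
    (δ : IrrCharacter G → ℤ) (τ : G) (s : ℤ) : Prop where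
  s_le : |s| ≤ 1
  val_Y : ∀ θ ∈ Y, (θ : G → ℂ) τ = (s : ℂ)
  val_minus : ∀ χ ∈ minusSet X δ, (χ : G → ℂ) τ = 0
  val_plus : ∀ χ ∈ plusSet X δ, ∃ z : ℤ, (χ : G → ℂ) τ = (z : ℂ) ∧ |z| ≤ (t : ℤ)
  sum_plus : ∑ χ ∈ plusSet X δ, (χ : G → ℂ) τ = -1 - (s : ℂ)
  val_out : ∀ ψ : IrrCharacter G, ψ ∉ X → ψ ∉ Y →
    (charDegree (ψ : G → ℂ) : ℂ) = (p : ℂ) * (ψ : G → ℂ) τ

end Cfsg.Agent.H21.BR
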