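import Mathlib
import Cfsg.Agent.H2.CensusStmts
import Cfsg.Agent.S4729
import Cfsg.Agent.H21.E2Wbo
import Cfsg.Agent.H21.SimpleTools
import Cfsg.Agent.H21.ResidueTrick
import Cfsg.Agent.H78.DefectZero
import Cfsg.Agent.H81.Reg
import Cfsg.Agent.H11.SmallSimple

/-!
# Census of simple group orders `3641 .. 6232`, piece BG4 (helper21)

`BrauerData` for a prime exactly dividing the order of a non-cyclic simple group, from the
character-level statement `StmtBlockChars` and the absence of characters of degree `2`.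
-/

set_option autoImplicit false
set_option linter.style.haveILetI false

namespace Cfsg.Agent.H21.Census

open Cfsg Cfsg.Agent.H2.Census

open scoped commutatorElement

universe u

/-- A non-abelian simple group is perfect. -/
theorem commutator_eq_top_of_na {G : Type*} [Group G] [IsSimpleGroup G]
    (hna : ∃ u v : G, u * v ≠ v * u) : commutator G = ⊤ := by
  rcases (inferInstance : (commutator G).Normal).eq_bot_or_eq_top with h | h
  · exfalso
    obtain ⟨u, v, huv⟩ := hna
    apply huv
    have h1 : ⁅u, v⁆ ∈ commutator G := Subgroup.commutator_mem_commutator (Subgroup.mem_top u)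
      (Subgroup.mem_top v)
    rw [h, Subgroup.mem_bot, commutatorElement_eq_one_iff_mul_comm] at h1
    exact h1
  · exact h

/-- Piece `S0983-BG4`. -/
theorem stmtBD (h1 : StmtNoDegTwo.{u}) (h3 : StmtBlockChars.{u}) : StmtBD.{u} := by
  intro G _ _ _ hnc p _ hp2 hpdvd hpp
  classical
  have hp : p.Prime := Fact.out
  have hcomm := Cfsg.Agent.H11.not_comm_of_not_isCyclic hnc
  have hG : ¬ IsMulCommutative G := fun h => hcomm (fun a b => h.is_comm.comm a b)
  have hna : ∃ u v : G, u * v ≠ v * u := by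
    by_contra hcon
    push Not at hcon
    exact hcomm hcon
  have hperf := commutator_eq_top_of_na hna
  have hNpos : 0 < Nat.card G := Nat.card_pos
  obtain ⟨P⟩ : Nonempty (Sylow p G) := inferInstance
  have hPc : Nat.card (P : Subgroup G) = p := Cfsg.Agent.H11.sylow_card_eq_prime p hpdvd hpp P
  obtain ⟨e, he, he1, hedvd, -⟩ := Cfsg.Agent.H21.simple_sylow_prime_card_NC hG P hPc
  have he0 : e ≠ 0 := by
    rintro rfl
    have := Nat.eq_zero_of_zero_dvd hedvd
    have := hp.two_le
    omega
  have he2 : 2 ≤ e := by omega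
  -- the centralizer
  have hcyc : IsCyclic (P : Subgroup G) := isCyclic_of_prime_card hPc
  have hPC : (P : Subgroup G) ≤ Subgroup.centralizer ((P : Subgroup G) : Set G) := by
    have hcomm' : ∀ a b : (P : Subgroup G), a * b = b * a := fun a b =>
      (IsCyclic.commGroup (α := (P : Subgroup G))).mul_comm a b
    intro x hx y hy
    have := hcomm' ⟨y, hy⟩ ⟨x, hx⟩
    exact congrArg Subtype.val this
  have hpC : p ∣ Nat.card (Subgroup.centralizer ((P : Subgroup G) : Set G)) := by
    have := Subgroup.card_dvd_of_le hPC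
    rwa [hPc] at this
  obtain ⟨k, hk⟩ := hpC
  have hCN := Cfsg.Agent.H21.card_centralizer_mul_relIndex_normalizer (P : Subgroup G)
  rw [← he] at hCN
  have hNn := Cfsg.Agent.H11.card_normalizer_mul_card_sylow p P
  obtain ⟨-, hnmod, -, hnfac⟩ := Cfsg.Agent.H11.sylow_card_facts hnc p hpdvd
  have hNeq : Nat.card (Sylow p G) * (p * (k * e)) = Nat.card G := by
    rw [← hNn, ← hCN, hk]
    ring
  obtain ⟨M, hM⟩ := Cfsg.Agent.H78.exists_isPModular p hp
  obtain ⟨S, θ, ε, hScard, -, hε, hS, hθ1, hθmod, hsum, hsq, hSB, hθB, hB⟩ :=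
    h3 G hnc p hp2 M hM P hPc e he.symm
  -- degree facts
  have hdpos : ∀ χ : IrrCharacter G, 0 < charDegree (χ : G → ℂ) :=
    fun χ => (Cfsg.Agent.H81.irr_charDegree χ).2
  have hddvd : ∀ χ : IrrCharacter G, charDegree (χ : G → ℂ) ∣ Nat.card G :=
    fun χ => Cfsg.Agent.H81.irr_charDegree_dvd χ
  have hdle : ∀ χ : IrrCharacter G, charDegree (χ : G → ℂ) ≤ Nat.card G :=
    fun χ => Nat.le_of_dvd hNpos (hddvd χ)
  have hd3 : ∀ χ : IrrCharacter G, charDegree (χ : G → ℂ) ≠ 1 → 3 ≤ charDegree (χ : G → ℂ) := by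
    intro χ hχ
    have h2 := h1 G hnc χ
    have h0 := hdpos χ
    omega
  -- the centralizer is large, or the degrees are
  have hbig : k ≠ 1 → ∀ ψ ∈ principalBlock M G, charDegree (ψ : G → ℂ) ≠ 1 →
      2 * p ≤ charDegree (ψ : G → ℂ) := by
    intro hk1 ψ hψ hψ1
    by_contra hlt
    push Not at hlt
    have hψ1' : (ψ : G → ℂ) 1 ≠ 1 := by
      rw [(Cfsg.Agent.H81.irr_charDegree ψ).1]
      intro h
      exact hψ1 (by exact_mod_cast h)
    have hfaith : ∀ g : G, (ψ : G → ℂ) g = (ψ : G → ℂ) 1 → g = 1 := by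
      intro g hg
      by_contra hg1
      exact Cfsg.Agent.H21.ResidueTrick.irr_apply_ne_degree ψ hψ1' g hg1 hg
    have hpg := Cfsg.Agent.S4729.result p M hM hperf P ψ hψ hfaith hlt
    obtain ⟨j, hj⟩ := hpg.exists_card_eq
    apply hk1
    have hdvdG : Nat.card (Subgroup.centralizer ((P : Subgroup G) : Set G)) ∣ Nat.card G :=
      Subgroup.card_subgroup_dvd_card _
    have hj1 : j < 2 := by
      by_contra hj2
      push Not at hj2
      apply hpp
      have : p ^ 2 ∣ p ^ j := pow_dvd_pow p hj2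
      rw [pow_two] at this
      exact this.trans (hj ▸ hdvdG)
    have hkp : p * k = p ^ j := by rw [← hk, hj]
    interval_cases j
    · rw [pow_zero] at hkp
      have := Nat.eq_one_of_mul_eq_one_right hkp
      have := hp.one_lt
      omega
    · rw [pow_one] at hkp
      have : p * k = p * 1 := by rw [hkp, mul_one]
      exact Nat.eq_of_mul_eq_mul_left hp.pos this
  -- multiplicities
  set deg : IrrCharacter G → ℕ := fun χ => charDegree (χ : G → ℂ) with hdeg
  have hmaps : ∀ χ ∈ S, deg χ ∈ Finset.range (Nat.card G + 1) := by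
    intro χ _
    rw [Finset.mem_range]
    have := hdle χ
    simp only [hdeg]
    omega
  have hcne : ∀ D, (S.filter (fun χ => deg χ = D)).card ≠ 0 → ∃ χ ∈ S, deg χ = D := by
    intro D hD
    obtain ⟨χ, hχ⟩ := Finset.card_pos.1 (Nat.pos_of_ne_zero hD)
    rw [Finset.mem_filter] at hχ
    exact ⟨χ, hχ.1, hχ.2⟩
  refine ⟨Nat.card (Sylow p G), k, e, deg θ, ε, fun D => (S.filter (fun χ => deg χ = D)).card,
    hNeq, hnmod, hnfac, hedvd, he2, hε, hd3 θ hθ1, hddvd θ, hθmod,
    fun hk1 => hbig hk1 θ hθB hθ1, ⟨θ, rfl⟩, ?_, ?_, ?_, ?_, ?_⟩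
  · intro D hD
    obtain ⟨χ, hχS, rfl⟩ := hcne D hD
    obtain ⟨hχ1, hχmod⟩ := hS χ hχS
    exact ⟨hd3 χ hχ1, hddvd χ, hχmod, fun hk1 => hbig hk1 χ (hSB χ hχS) hχ1, ⟨χ, rfl⟩⟩
  · rw [← hScard]
    exact (Finset.card_eq_sum_card_fiberwise hmaps).symm
  · rw [← hsum]
    congr 1
    rw [← Finset.sum_fiberwise_of_maps_to hmaps]
    apply Finset.sum_congr rfl
    intro D _
    rw [Finset.sum_congr rfl (g := fun _ => sgn p D * (D : ℤ))
      (fun χ hχ => by
        have := (Finset.mem_filter.1 hχ).2
        simp only [hdeg] at this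
        rw [this])]
    rw [Finset.sum_const, nsmul_eq_mul]
    ring
  · have hsq' : ∑ D ∈ Finset.range (Nat.card G + 1),
        (S.filter (fun χ => deg χ = D)).card * (D * D) =
        ∑ χ ∈ S, charDegree (χ : G → ℂ) * charDegree (χ : G → ℂ) := by
      rw [← Finset.sum_fiberwise_of_maps_to hmaps]
      apply Finset.sum_congr rfl
      intro D _
      rw [Finset.sum_congr rfl (g := fun _ => D * D)
        (fun χ hχ => by
          have := (Finset.mem_filter.1 hχ).2
          simp only [hdeg] at this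
          rw [this])]
      rw [Finset.sum_const, smul_eq_mul]
    rw [hsq']
    exact hsq
  · intro hk1 D hD hpD
    obtain ⟨χ, rfl⟩ := hD
    have hCc : Nat.card (Subgroup.centralizer ((P : Subgroup G) : Set G)) =
        Nat.card (P : Subgroup G) := by
      rw [hk, hk1, mul_one, hPc]
    have hC : Subgroup.centralizer ((P : Subgroup G) : Set G) = (P : Subgroup G) :=
      (Subgroup.eq_of_le_of_card_ge hPC hCc.le).symm
    have hχB : χ ∈ principalBlock M G := by
      by_contra hχ
      exact hpD (Cfsg.Agent.H21.E2Block.outside_dvd p M hM P hPc hC χ hχ)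
    rcases hB χ hχB with h | h | h
    · exact Or.inl h
    · right; right
      exact Finset.card_ne_zero.2 ⟨χ, Finset.mem_filter.2 ⟨h, rfl⟩⟩
    · exact Or.inr (Or.inl h)

end Cfsg.Agent.H21.Census
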