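import Cfsg.Agent.H21.PrimeSylowFix
import Cfsg.Agent.H21.SimpleTools

set_option autoImplicit false

namespace Cfsg.Agent.H21

open Subgroup

/-- Number of non-identity elements of a finite subgroup. -/
theorem card_mem_ne_one {G : Type*} [Group G] (Q : Subgroup G) [Finite Q] :
    Nat.card {g : G // g ∈ Q ∧ g ≠ 1} = Nat.card Q - 1 := by
  have h1 : {g : G | g ∈ Q ∧ g ≠ 1} = (Q : Set G) \ {1} := by
    ext g; simp
  have h2 : Nat.card {g : G // g ∈ Q ∧ g ≠ 1} = ({g : G | g ∈ Q ∧ g ≠ 1}).ncard :=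
    Nat.card_coe_set_eq _
  have hfin : (Q : Set G).Finite := Set.toFinite _
  rw [h2, h1, Set.ncard_sdiff_singleton_of_mem (Q.one_mem) , ← Nat.card_coe_set_eq]
  rfl

/-- If the Sylow `p`-subgroups have order `p`, the number of elements of order `p` is
`n_p * (p - 1)`. -/
theorem card_orderOf_eq_prime {G : Type*} [Group G] [Finite G] (p : ℕ) [Fact p.Prime]
    (P : Sylow p G) (hP : Nat.card (P : Subgroup G) = p) :
    Nat.card {g : G // orderOf g = p} = Nat.card (Sylow p G) * (p - 1) := by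
  classical
  have hp : p.Prime := Fact.out
  have := Fintype.ofFinite (Sylow p G)
  have hcard : ∀ Q : Sylow p G, Nat.card (Q : Subgroup G) = p := by
    intro Q
    have h1 : Nat.card (Q : Subgroup G) = Nat.card (P : Subgroup G) := by
      rw [Sylow.card_eq_multiplicity, Sylow.card_eq_multiplicity]
    exact h1.trans hP
  have huniq : ∀ (g : G) (Q Q' : Sylow p G), g ≠ 1 → g ∈ (Q : Subgroup G) →
      g ∈ (Q' : Subgroup G) → Q = Q' := by
    intro g Q Q' h1 hQ hQ'
    apply Sylow.ext
    have ho := orderOf_eq_of_mem_card_prime hp (Q : Subgroup G) (hcard Q) g hQ h1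
    rw [eq_zpowers_of_card_prime (Q : Subgroup G) (hcard Q) g hQ ho,
      eq_zpowers_of_card_prime (Q' : Subgroup G) (hcard Q') g hQ' ho]
  have aux : ∀ (Q Q' : Sylow p G) (g : G) (h1 : g ∈ (Q' : Subgroup G) ∧ g ≠ 1)
      (h2 : g ∈ (Q : Subgroup G) ∧ g ≠ 1), Q' = Q →
      (⟨Q', ⟨g, h1⟩⟩ : Σ Q : Sylow p G, {g : G // g ∈ (Q : Subgroup G) ∧ g ≠ 1}) = ⟨Q, ⟨g, h2⟩⟩ := by
    intro Q Q' g h1 h2 h
    subst h
    rfl
  let f : (Σ Q : Sylow p G, {g : G // g ∈ (Q : Subgroup G) ∧ g ≠ 1}) → {g : G // orderOf g = p} :=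
    fun q => ⟨q.2.1,
      orderOf_eq_of_mem_card_prime hp (q.1 : Subgroup G) (hcard q.1) q.2.1 q.2.2.1 q.2.2.2⟩
  have hf : Function.Bijective f := by
    constructor
    · rintro ⟨Q, g, hgQ, hg1⟩ ⟨Q', g', hgQ', hg1'⟩ h
      have hgg : g = g' := congrArg Subtype.val h
      subst hgg
      exact aux _ _ _ _ _ (huniq g Q Q' hg1 hgQ hgQ')
    · rintro ⟨g, hg⟩
      have hpg : IsPGroup p (zpowers g) := by
        apply IsPGroup.of_card (n := 1)
        rw [Nat.card_zpowers, hg, pow_one]
      obtain ⟨Q, hQ⟩ := hpg.exists_le_sylow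
      have hg1 : g ≠ 1 := by
        rintro rfl
        rw [orderOf_one] at hg
        exact hp.one_lt.ne hg
      exact ⟨⟨Q, g, hQ (mem_zpowers _), hg1⟩, rfl⟩
  rw [← Nat.card_congr (Equiv.ofBijective f hf), Nat.card_sigma]
  simp only [card_mem_ne_one, hcard]
  rw [Finset.sum_const, Finset.card_univ, Nat.card_eq_fintype_card, smul_eq_mul]

/-- If `|P| = p` for a Sylow `p`-subgroup `P`, then every element whose order is divisible by `p`
has order dividing `|C_G(P)|`. -/
theorem orderOf_dvd_card_centralizer_of_dvd {G : Type*} [Group G] [Finite G] (p : ℕ)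
    [Fact p.Prime] (P : Sylow p G) (hP : Nat.card (P : Subgroup G) = p) (g : G)
    (hg : p ∣ orderOf g) : orderOf g ∣ Nat.card (centralizer ((P : Subgroup G) : Set G)) := by
  have hp : p.Prime := Fact.out
  have ho0 : orderOf g ≠ 0 := (orderOf_pos g).ne'
  obtain ⟨h, hh⟩ : ∃ h : G, h = g ^ (orderOf g / p) := ⟨_, rfl⟩
  have hho : orderOf h = p := by rw [hh]; exact orderOf_pow_orderOf_div ho0 hg
  obtain ⟨c, hc⟩ := Cfsg.Agent.S1018.exists_conj_mem_sylow' P h hho
  have hco : orderOf (c * h * c⁻¹) = p := by rw [Cfsg.Agent.S1018.orderOf_conj_eq, hho]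
  have hmem : c * g * c⁻¹ ∈ centralizer ((P : Subgroup G) : Set G) := by
    rw [mem_centralizer_iff]
    intro t ht
    rw [SetLike.mem_coe, eq_zpowers_of_card_prime (P : Subgroup G) hP _ hc hco] at ht
    obtain ⟨k, rfl⟩ := mem_zpowers_iff.1 ht
    have hcomm : Commute (c * h * c⁻¹) (c * g * c⁻¹) := by
      have h1 : Commute h g := by rw [hh]; exact (Commute.refl g).pow_left _
      show c * h * c⁻¹ * (c * g * c⁻¹) = c * g * c⁻¹ * (c * h * c⁻¹)
      calc c * h * c⁻¹ * (c * g * c⁻¹) = c * (h * g) * c⁻¹ := by group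
        _ = c * (g * h) * c⁻¹ := by rw [h1.eq]
        _ = c * g * c⁻¹ * (c * h * c⁻¹) := by group
    exact (hcomm.zpow_left k).eq
  have := orderOf_dvd_card_of_mem _ _ hmem
  rwa [Cfsg.Agent.S1018.orderOf_conj_eq] at this

/-- The number of `p`-elements is at most `n_p * |P|`. -/
theorem card_prime_pow_order_le {G : Type*} [Group G] [Finite G] (p : ℕ) [Fact p.Prime]
    (P : Sylow p G) :
    Nat.card {g : G // ∃ k : ℕ, orderOf g = p ^ k} ≤ Nat.card (Sylow p G) * Nat.card (P : Subgroup G) := by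
  classical
  have := Fintype.ofFinite (Sylow p G)
  have hcard : ∀ Q : Sylow p G, Nat.card (Q : Subgroup G) = Nat.card (P : Subgroup G) := by
    intro Q
    rw [Sylow.card_eq_multiplicity, Sylow.card_eq_multiplicity]
  let f : (Σ Q : Sylow p G, (Q : Subgroup G)) → {g : G // ∃ k : ℕ, orderOf g = p ^ k} :=
    fun q => ⟨q.2.1, by
      obtain ⟨k, hk⟩ := (IsPGroup.iff_orderOf.1 q.1.2) q.2
      exact ⟨k, by rw [← hk, Subgroup.orderOf_coe]⟩⟩
  have hf : Function.Surjective f := by
    rintro ⟨g, k, hk⟩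
    have hpg : IsPGroup p (zpowers g) := by
      apply IsPGroup.of_card (n := k)
      rw [Nat.card_zpowers, hk]
    obtain ⟨Q, hQ⟩ := hpg.exists_le_sylow
    exact ⟨⟨Q, ⟨g, hQ (mem_zpowers _)⟩⟩, rfl⟩
  have h1 := Nat.card_le_card_of_surjective f hf
  rw [Nat.card_sigma] at h1
  simp only [hcard] at h1
  rw [Finset.sum_const, Finset.card_univ, smul_eq_mul, ← Nat.card_eq_fintype_card] at h1
  exact h1

/-- Union bound with three pieces. -/
theorem card_le_card_add_three {α : Type*} [Finite α] (p q r : α → Prop)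
    (h : ∀ a, p a ∨ q a ∨ r a) :
    Nat.card α ≤ Nat.card {a // p a} + Nat.card {a // q a} + Nat.card {a // r a} := by
  classical
  let f : α → ({a // p a} ⊕ {a // q a}) ⊕ {a // r a} := fun a =>
    if hp : p a then Sum.inl (Sum.inl ⟨a, hp⟩)
    else if hq : q a then Sum.inl (Sum.inr ⟨a, hq⟩)
    else Sum.inr ⟨a, ((h a).resolve_left hp).resolve_left hq⟩
  have hf : Function.Injective f := by
    intro a b hab
    simp only [f] at hab
    split_ifs at hab with h1 h2 h3 h4 h5 h6 <;> simp_all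
  have := Nat.card_le_card_of_injective f hf
  rwa [Nat.card_sum, Nat.card_sum] at this

/-- Union bound with two pieces. -/
theorem card_le_card_add_two {α : Type*} [Finite α] (p q : α → Prop)
    (h : ∀ a, p a ∨ q a) :
    Nat.card α ≤ Nat.card {a // p a} + Nat.card {a // q a} := by
  classical
  let f : α → {a // p a} ⊕ {a // q a} := fun a =>
    if hp : p a then Sum.inl ⟨a, hp⟩ else Sum.inr ⟨a, (h a).resolve_left hp⟩
  have hf : Function.Injective f := by
    intro a b hab
    simp only [f] at hab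
    split_ifs at hab with h1 h2 h3 <;> simp_all
  have := Nat.card_le_card_of_injective f hf
  rwa [Nat.card_sum] at this

/-- Fixed points of an element commuting with a `p`-subgroup `H`: the number of fixed points is
congruent mod `p` to the number of fixed points that are also fixed by `H`. -/
theorem card_fixedBy_modEq_of_commute {G X : Type*} [Group G] [MulAction G X] [Finite X] {p : ℕ}
    [Fact p.Prime] (H : Subgroup G) (hH : IsPGroup p H) (t : G) (ht : ∀ h ∈ H, h * t = t * h) :
    Nat.card (MulAction.fixedBy X t) ≡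
      Nat.card {x : X // t • x = x ∧ ∀ h ∈ H, h • x = x} [MOD p] := by
  let S : SubMulAction H X :=
    { carrier := MulAction.fixedBy X t
      smul_mem' := fun h x hx => by
        show t • ((h : G) • x) = (h : G) • x
        have hx' : t • x = x := hx
        rw [← mul_smul, ← ht h.1 h.2, mul_smul, hx'] }
  have h1 := hH.card_modEq_card_fixedPoints S
  have h2 : Nat.card S = Nat.card (MulAction.fixedBy X t) := rfl
  have h3 : Nat.card (MulAction.fixedPoints H S) =
      Nat.card {x : X // t • x = x ∧ ∀ h ∈ H, h • x = x} := by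
    apply Nat.card_congr
    refine ⟨fun a => ⟨a.1.1, a.1.2, fun h hh => ?_⟩, fun b => ⟨⟨b.1, b.2.1⟩, fun h => ?_⟩, ?_, ?_⟩
    · have := a.2 ⟨h, hh⟩
      exact congrArg Subtype.val this
    · apply Subtype.ext
      exact b.2.2 h.1 h.2
    · intro a; rfl
    · intro b; rfl
  rw [← h2, ← h3]
  exact h1

/-- For a Sylow `p`-subgroup `P` of order `p` and `t ∈ C_G(P)`, the number of Sylow
`p`-subgroups fixed by `t` is `≡ 1 [MOD p]`. -/
theorem card_fixedBy_modEq_one_of_mem_centralizer {G : Type*} [Group G] [Finite G] (p : ℕ)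
    [Fact p.Prime] (P : Sylow p G) (hP : Nat.card (P : Subgroup G) = p) (t : G)
    (ht : t ∈ centralizer ((P : Subgroup G) : Set G)) :
    Nat.card (MulAction.fixedBy (G ⧸ normalizer ((P : Subgroup G) : Set G)) t) ≡ 1 [MOD p] := by
  have hp : p.Prime := Fact.out
  have h1 := card_fixedBy_modEq_of_commute (X := G ⧸ normalizer ((P : Subgroup G) : Set G))
    (P : Subgroup G) P.2 t (fun h hh => (ht h hh))
  have hfixN : ∀ z ∈ normalizer ((P : Subgroup G) : Set G),
      z • ((1 : G) : G ⧸ normalizer ((P : Subgroup G) : Set G)) = ((1 : G) : G ⧸ _) := by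
    intro z hz
    rw [eq_comm]
    show ((1 : G) : G ⧸ normalizer ((P : Subgroup G) : Set G)) = ((z * 1 : G) : G ⧸ _)
    rw [QuotientGroup.eq]
    simpa using hz
  have h2 : Nat.card {x : G ⧸ normalizer ((P : Subgroup G) : Set G) //
      t • x = x ∧ ∀ h ∈ (P : Subgroup G), h • x = x} = 1 := by
    rw [Nat.card_eq_one_iff_unique]
    obtain ⟨y, hyP, hy⟩ := exists_mem_orderOf_eq_prime (P : Subgroup G) p (by rw [hP])
    have hone := (Cfsg.Agent.S1018.result p P hP).1 y hy
    rw [Nat.card_eq_one_iff_unique] at hone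
    constructor
    · constructor
      rintro ⟨a, ha⟩ ⟨b, hb⟩
      have hsub := hone.1
      have := hsub.elim (⟨a, ha.2 y hyP⟩ : MulAction.fixedBy _ y) ⟨b, hb.2 y hyP⟩
      exact Subtype.ext (by simpa using congrArg Subtype.val this)
    · exact ⟨⟨((1 : G) : G ⧸ _), hfixN t (centralizer_le_normalizer _ ht),
        fun h hh => hfixN h (le_normalizer hh)⟩⟩
  rw [h2] at h1
  exact h1

/-- In a simple group, a non-identity element does not fix every coset of a proper subgroup. -/
theorem card_fixedBy_lt_index {G : Type*} [Group G] [Finite G] [IsSimpleGroup G]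
    (H : Subgroup G) (hH : H ≠ ⊤) (t : G) (ht : t ≠ 1) :
    Nat.card (MulAction.fixedBy (G ⧸ H) t) < H.index := by
  by_contra hcon
  have hle : Nat.card (G ⧸ H) ≤ Nat.card (MulAction.fixedBy (G ⧸ H) t) := not_lt.1 hcon
  have huniv : MulAction.fixedBy (G ⧸ H) t = Set.univ := by
    rw [Set.eq_univ_iff_ncard, ← Nat.card_coe_set_eq]
    exact le_antisymm (Nat.card_le_card_of_injective _ Subtype.val_injective) hle
  have hcore : t ∈ H.normalCore := by
    intro b
    have hb : ((b⁻¹ : G) : G ⧸ H) ∈ MulAction.fixedBy (G ⧸ H) t := by rw [huniv]; trivial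
    have hb' : t • ((b⁻¹ : G) : G ⧸ H) = ((b⁻¹ : G) : G ⧸ H) := hb
    rw [eq_comm] at hb'
    have hb'' : ((b⁻¹ : G) : G ⧸ H) = ((t * b⁻¹ : G) : G ⧸ H) := hb'
    rw [QuotientGroup.eq] at hb''
    simpa [mul_assoc] using hb''
  have hnorm : H.normalCore.Normal := inferInstance
  rcases hnorm.eq_bot_or_eq_top with h | h
  · rw [h, mem_bot] at hcore
    exact ht hcore
  · exact hH (top_le_iff.1 (h ▸ H.normalCore_le))

end Cfsg.Agent.H21
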