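import Cfsg.Agent.H59.JzKillDefs
import Cfsg.Agent.H51.Amalgam

/-!
# JZ-KILL, piece K-TI (for helper59 / helper64, S2951 / S2952)

`kTI_of_conj : StKConj → StKCent → StKNV → StKTI`, where `StKConj` says: every `1 ≠ u ∈ V` is
`L`-conjugate to an element centralized by `J(S)`.
-/

set_option autoImplicit false
open Cfsg

namespace Cfsg.Agent.H21.Jk

open Cfsg.Agent.H64.Jz Cfsg.Agent.H59.JzK

universe u

/-- K-CONJ: every nontrivial element of `V` is `L`-conjugate to an element centralized by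
`J(S)`. -/
def StKConj : Prop := ∀ {G : Type u} [Group G] [Finite G] (S : Sylow 2 G)
    (M K L T' K' L' : Subgroup G), RCtx S M K L T' K' L' →
  maxElemAbelianOrder T' ≠ maxElemAbelianOrder (S : Subgroup G) →
  ∀ u ∈ Vof L, u ≠ 1 → ∃ l ∈ L,
    thompsonSubgroupOf 2 (S : Subgroup G) ≤ Subgroup.centralizer ({l * u * l⁻¹} : Set G)

/-- Conjugates of 2-local subgroups are 2-local subgroups. -/
theorem twoLocal_map_conj {G : Type u} [Group G] {N : Subgroup G} (g : G) (h : IsTwoLocal N) :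
    IsTwoLocal (N.map (MulAut.conj g).toMonoidHom) := by
  obtain ⟨Q, hQ2, hQne, rfl⟩ := h
  refine ⟨Q.map (MulAut.conj g).toMonoidHom, hQ2.map _, ?_, ?_⟩
  · intro h0
    apply hQne
    exact (Subgroup.map_eq_bot_iff_of_injective Q (MulAut.conj g).injective).mp h0
  · exact Subgroup.map_equiv_normalizer_eq Q (MulAut.conj g)

/-- A maximal 2-local subgroup is self-normalizing: `L^g = L` forces `g ∈ L`. -/
theorem mem_of_conj_eq_self {G : Type u} [Group G] {L : Subgroup G}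
    (hLmax : IsMaximalTwoLocal L) {g : G}
    (h : L.map (MulAut.conj g).toMonoidHom = L) : g ∈ L := by
  obtain ⟨hL2, hLm⟩ := hLmax
  have hPne : pCoreOf 2 L ≠ ⊥ := by
    obtain ⟨Q, hQ2, hQne, hLQ⟩ := hL2
    intro h0
    apply hQne
    have hQL : Q ≤ L := by rw [hLQ]; exact Subgroup.le_normalizer
    have hQP : Q ≤ pCoreOf 2 L := Cfsg.Agent.H51.le_pCoreOf 2 hQL (by rw [hLQ]) hQ2
    rw [h0] at hQP
    exact le_bot_iff.mp hQP
  have hN : Subgroup.normalizer (pCoreOf 2 L : Set G) = L :=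
    hLm _ ⟨pCoreOf 2 L, Cfsg.Agent.H51.pCoreOf_isPGroup 2 L, hPne, rfl⟩
      (Cfsg.Agent.H51.le_normalizer_pCoreOf 2 L)
  have hP : (pCoreOf 2 L).map (MulAut.conj g).toMonoidHom = pCoreOf 2 L := by
    rw [← Cfsg.Agent.H51.pCoreOf_map 2 L (MulAut.conj g), h]
  have hg : g ∈ Subgroup.normalizer (pCoreOf 2 L : Set G) := by
    rw [Subgroup.mem_normalizer_iff]
    intro x
    constructor
    · intro hx
      rw [← hP]
      exact ⟨x, hx, rfl⟩
    · intro hx
      rw [← hP] at hx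
      obtain ⟨y, hy, hyx⟩ := hx
      have hyx' : y = x := (MulAut.conj g).injective hyx
      rwa [← hyx']
  rwa [hN] at hg

/-- K-TI from K-CONJ, K-CENT and K-NV. -/
theorem kTI_of_conj (hConj : StKConj.{u}) (hCent : StKCent.{u}) (hNV : StKNV.{u}) :
    StKTI.{u} := by
  intro G _ _ S M K L T' K' L' hR ha g hne
  have hNVeq : Subgroup.normalizer (Vof L : Set G) = L := hNV S M K L T' K' L' hR
  have H1 := hCent S M K L T' K' L' hR ha
  have H2 := hConj S M K L T' K' L' hR ha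
  have hLmax : IsMaximalTwoLocal L := hR.1.2.2.2.2.2.2.2.1
  have hX := hR.2.1
  -- a nontrivial element of the intersection
  obtain ⟨u, hu1⟩ := (Subgroup.ne_bot_iff_exists_ne_one).mp hne
  obtain ⟨huV, huVg⟩ := Subgroup.mem_inf.mp u.2
  have hu1' : (u : G) ≠ 1 := fun h => hu1 (Subtype.ext h)
  obtain ⟨v, hvV, hvu⟩ := huVg
  have hvu' : g * v * g⁻¹ = (u : G) := by
    simpa [MulAut.conj_apply] using hvu
  have hv1 : v ≠ 1 := by
    intro h
    apply hu1'
    rw [← hvu', h]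
    group
  obtain ⟨l, hlL, hJ⟩ := H2 v hvV hv1
  -- y := l g⁻¹
  have hJy : thompsonSubgroupOf 2 (S : Subgroup G) ≤
      L.map (MulAut.conj (l * g⁻¹)).toMonoidHom := by
    intro j hj
    have hjc := hJ hj
    rw [Subgroup.mem_centralizer_iff] at hjc
    have hc : (l * v * l⁻¹) * j = j * (l * v * l⁻¹) := hjc _ rfl
    have hmem : (l * g⁻¹)⁻¹ * j * (l * g⁻¹) ∈ Subgroup.centralizer ({(u : G)} : Set G) := by
      rw [Subgroup.mem_centralizer_iff]
      intro x hx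
      rw [Set.mem_singleton_iff] at hx
      subst hx
      rw [← hvu']
      have e1 : g * v * g⁻¹ * ((l * g⁻¹)⁻¹ * j * (l * g⁻¹)) =
          g * l⁻¹ * ((l * v * l⁻¹) * j) * l * g⁻¹ := by group
      have e2 : (l * g⁻¹)⁻¹ * j * (l * g⁻¹) * (g * v * g⁻¹) =
          g * l⁻¹ * (j * (l * v * l⁻¹)) * l * g⁻¹ := by group
      rw [e1, e2, hc]
    have hmemL : (l * g⁻¹)⁻¹ * j * (l * g⁻¹) ∈ L := by
      have := H1 (u : G) huV hu1' hmem
      rwa [hNVeq] at this
    refine ⟨(l * g⁻¹)⁻¹ * j * (l * g⁻¹), hmemL, ?_⟩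
    simp only [MulEquiv.coe_toMonoidHom, MulAut.conj_apply]
    group
  have hle : L.map (MulAut.conj (l * g⁻¹)).toMonoidHom ≤ L :=
    hX _ (twoLocal_map_conj (l * g⁻¹) hLmax.1) hJy
  have hcard : Nat.card ↥(L.map (MulAut.conj (l * g⁻¹)).toMonoidHom) = Nat.card ↥L :=
    Subgroup.card_map_of_injective (MulAut.conj (l * g⁻¹)).injective
  have hEq : L.map (MulAut.conj (l * g⁻¹)).toMonoidHom = L :=
    Subgroup.eq_of_le_of_card_ge hle (by rw [hcard])
  have hyL : l * g⁻¹ ∈ L := mem_of_conj_eq_self hLmax hEq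
  have hgL : g ∈ L := by
    have h1 : (l * g⁻¹)⁻¹ * l ∈ L := L.mul_mem (L.inv_mem hyL) hlL
    have e : (l * g⁻¹)⁻¹ * l = g := by group
    rwa [e] at h1
  rw [hNVeq]
  exact hgL

end Cfsg.Agent.H21.Jk

#print axioms Cfsg.Agent.H21.Jk.kTI_of_conj

example : Cfsg.Agent.H21.Jk.StKConj.{0} → Cfsg.Agent.H59.JzK.StKCent.{0} →
    Cfsg.Agent.H59.JzK.StKNV.{0} → Cfsg.Agent.H59.JzK.StKTI.{0} :=
  Cfsg.Agent.H21.Jk.kTI_of_conj
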