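import Cfsg.Agent.S1018
import Cfsg.Agent.H21.PrimeSylow

set_option autoImplicit false

namespace Cfsg.Agent.H21

open Subgroup

/-- For a Sylow `p`-subgroup `P` of order `p`, the number of `P`-orbits on the cosets of `N(P)`
(i.e. on the Sylow `p`-subgroups) is `(n_p - 1) / p + 1`. -/
theorem card_orbits_sylow_prime {G : Type*} [Group G] [Finite G] (p : ℕ) [Fact p.Prime]
    (P : Sylow p G) (hP : Nat.card (P : Subgroup G) = p) :
    Nat.card (MulAction.orbitRel.Quotient (P : Subgroup G)
      (G ⧸ normalizer ((P : Subgroup G) : Set G))) * p = Nat.card (Sylow p G) + (p - 1) := by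
  classical
  have hp : p.Prime := Fact.out
  have := Fintype.ofFinite G
  have : Fintype (P : Subgroup G) := Fintype.ofFinite _
  have : Fintype (G ⧸ normalizer ((P : Subgroup G) : Set G)) := Fintype.ofFinite _
  have : Fintype (MulAction.orbitRel.Quotient (P : Subgroup G)
      (G ⧸ normalizer ((P : Subgroup G) : Set G))) := Fintype.ofFinite _
  have hB := MulAction.sum_card_fixedBy_eq_card_orbits_mul_card_group (P : Subgroup G)
    (G ⧸ normalizer ((P : Subgroup G) : Set G))
  have h1 : ∀ a : (P : Subgroup G), a ≠ 1 →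
      Fintype.card (MulAction.fixedBy (G ⧸ normalizer ((P : Subgroup G) : Set G)) a) = 1 := by
    intro a ha
    rw [← Nat.card_eq_fintype_card]
    have hord : orderOf (a : G) = p :=
      orderOf_eq_of_mem_card_prime hp (P : Subgroup G) hP a a.2 (by simpa using ha)
    exact (Cfsg.Agent.S1018.result p P hP).1 a hord
  have h0 : Fintype.card (MulAction.fixedBy (G ⧸ normalizer ((P : Subgroup G) : Set G))
      (1 : (P : Subgroup G))) = Nat.card (Sylow p G) := by
    rw [← Nat.card_eq_fintype_card, MulAction.fixedBy_one_eq_univ, Nat.card_coe_set_eq, Set.ncard_univ,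
      Sylow.card_eq_index_normalizer P]
    rfl
  rw [← Finset.add_sum_erase Finset.univ _ (Finset.mem_univ (1 : (P : Subgroup G))), h0,
    Finset.sum_congr rfl (fun a ha => h1 a (Finset.ne_of_mem_erase ha)), Finset.sum_const,
    Finset.card_erase_of_mem (Finset.mem_univ _), Finset.card_univ, ← Nat.card_eq_fintype_card,
    ← Nat.card_eq_fintype_card, hP, smul_eq_mul, mul_one] at hB
  exact hB.symm

/-- For a Sylow `p`-subgroup `P` of order `p`, an element of `N(P) \ C(P)` fixes at most
`(n_p - 1) / p + 1` Sylow `p`-subgroups. -/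
theorem card_fixedBy_mul_le_sylow_prime {G : Type*} [Group G] [Finite G] (p : ℕ) [Fact p.Prime]
    (P : Sylow p G) (hP : Nat.card (P : Subgroup G) = p) (x : G)
    (hxN : x ∈ normalizer ((P : Subgroup G) : Set G))
    (hxC : x ∉ centralizer ((P : Subgroup G) : Set G)) :
    Nat.card (MulAction.fixedBy (G ⧸ normalizer ((P : Subgroup G) : Set G)) x) * p ≤
      Nat.card (Sylow p G) + (p - 1) := by
  rw [← card_orbits_sylow_prime p P hP]
  exact Nat.mul_le_mul_right p ((Cfsg.Agent.S1018.result p P hP).2 x hxN hxC)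

/-- An element of `N(P)` fixes the coset `N(P)`. -/
theorem one_le_card_fixedBy_of_mem {G : Type*} [Group G] [Finite G] (H : Subgroup G) (x : G)
    (hx : x ∈ H) : 1 ≤ Nat.card (MulAction.fixedBy (G ⧸ H) x) := by
  rw [Nat.one_le_iff_ne_zero, Nat.card_ne_zero]
  refine ⟨⟨⟨((1 : G) : G ⧸ H), ?_⟩⟩, inferInstance⟩
  show x • ((1 : G) : G ⧸ H) = _
  rw [eq_comm]
  show ((1 : G) : G ⧸ H) = ((x * 1 : G) : G ⧸ H)
  rw [QuotientGroup.eq]
  simpa using hx

end Cfsg.Agent.H21
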