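import Mathlib
import Cfsg.Agent.H34.ThDefs

/-!
# S1632 piece TH-MF (helper21, for helper34): the theta series is a modular form of weight 12
-/

set_option autoImplicit false

namespace Cfsg.Agent.H21.Th

open Cfsg.Agent.H34.Th
open UpperHalfPlane ModularForm MatrixGroups SlashInvariantForm
open scoped Real

noncomputable section

/-- the theta series on the upper half plane. -/
def thetaH {ι : Type} (Q : ι → ℤ) : ℍ → ℂ := fun τ => thetaC Q (τ : ℂ)

theorem thetaC_add_one {ι : Type} (Q : ι → ℤ) (hq : QSer Q) (z : ℂ) (hz : 0 < z.im) :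
    thetaC Q (z + 1) = thetaC Q z := by
  have h1 := hq (z + 1) (by simpa using hz)
  have h2 := hq z hz
  have he : Complex.exp (2 * π * Complex.I * (z + 1)) = Complex.exp (2 * π * Complex.I * z) := by
    rw [mul_add, mul_one, Complex.exp_add, Complex.exp_two_pi_mul_I, mul_one]
  rw [he] at h1
  exact h1.unique h2

set_option backward.isDefEq.respectTransparency false in
theorem denom_T_eq (z : ℍ) : denom ModularGroup.T z = 1 := by
  simp [ModularGroup.T, ModularGroup.denom_apply]

theorem theta_T {ι : Type} (Q : ι → ℤ) (hq : QSer Q) :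
    (thetaH Q ∣[(12 : ℤ)] ModularGroup.T) = thetaH Q := by
  ext z
  rw [SL_slash_apply, denom_T_eq, modular_T_smul]
  simp only [thetaH, one_zpow, mul_one]
  have h := thetaC_add_one Q hq (z : ℂ) z.im_pos
  rw [← h]
  congr 1
  simp [add_comm]

theorem theta_S {ι : Type} (Q : ι → ℤ)
    (hinv : ∀ z : ℂ, 0 < z.im → thetaC Q (-1 / z) = z ^ 12 * thetaC Q z) :
    (thetaH Q ∣[(12 : ℤ)] ModularGroup.S) = thetaH Q := by
  ext z
  rw [SL_slash_apply, UpperHalfPlane.modular_S_smul, ModularGroup.denom_S]
  simp only [thetaH]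
  have h := hinv (z : ℂ) z.im_pos
  have hz : (z : ℂ) ≠ 0 := z.ne_zero
  have h2 : (-(z : ℂ))⁻¹ = -1 / (z : ℂ) := by
    rw [neg_div, one_div, inv_neg]
  rw [h2, h]
  rw [zpow_neg]
  have h3 : ((z : ℂ) ^ (12 : ℤ)) = (z : ℂ) ^ 12 := by norm_cast
  rw [h3]
  field_simp

theorem mf : StMF := by
  intro ι Q hdiff hinv hq
  have hS := theta_S Q hinv
  have hT := theta_T Q hq
  have hsum : ∀ τ : ℍ, HasSum (fun m : ℕ => ((rep Q m : ℂ)) • Function.Periodic.qParam 1 τ ^ m)
      (thetaH Q τ) := by
    intro τ
    have h := hq (τ : ℂ) τ.im_pos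
    simpa [Function.Periodic.qParam, thetaH] using h
  let f : ModularForm 𝒮ℒ 12 :=
    { toFun := thetaH Q
      slash_action_eq' := fun A hA => by
        obtain ⟨A, rfl⟩ := hA
        exact slash_action_generators_SL2Z hS hT A
      holo' := by
        rw [UpperHalfPlane.mdifferentiable_iff]
        refine hdiff.congr fun z hz => ?_
        simp [thetaH, ofComplex_apply_of_im_pos hz]
      bdd_at_cusps' := fun hc => by
        rw [Subgroup.IsArithmetic.isCusp_iff_isCusp_SL2Z] at hc
        rw [OnePoint.isBoundedAt_iff_forall_SL2Z hc]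
        intro γ _
        rw [slash_action_generators_SL2Z hS hT]
        exact UpperHalfPlane.isBoundedAtImInfty_of_hasSum_qExpansion one_pos hsum }
  refine ⟨f, fun m => ?_⟩
  exact (ModularFormClass.qExpansion_coeff_unique one_pos one_mem_strictPeriods_SL (f := f)
    hsum m).symm

example : StMF := mf

end

end Cfsg.Agent.H21.Th
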